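import Cfsg.Agent.Fusion.PPrime.Trivial

/-!
The `p'`-residual of a weakly normal subsystem is normal.
-/

set_option autoImplicit false
set_option linter.unusedSectionVars false
set_option linter.style.haveILetI false

open Cfsg Cfsg.FusionSystem

namespace CfsgLib.Fusion

variable {Ω : Type*} [Group Ω] {S T : Subgroup Ω} [Finite S] {F : FusionSystem S}
  {E D : FusionSystem T} {p : ℕ} [Fact p.Prime]

/-- The maps of `D` all whose twists by `Aut_F(T)` lie in `D`. -/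
def twistPart (hTS : T ≤ S) (F : FusionSystem S) (D : FusionSystem T) : FusionSystem T where
  Hom P := {φ | φ ∈ D.Hom P ∧ ∀ α ∈ F.autGroup T, ∀ f : Ω → Ω, (∀ x : P, φ x = f x) →
    ∀ P', Im (extAut α) P P' → Mor D P' (fun y => extAut α (f (extAut α⁻¹ y)))}
  le_of_mem h := D.le_of_mem h.1
  injective_of_mem h := D.injective_of_mem h.1
  conj_mem {P g} hP hg := by
    refine ⟨D.conj_mem hP hg, fun α hα f hf P' hi => ?_⟩
    have hP' : P' ≤ T := fun y hy => by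
      obtain ⟨x, hx, rfl⟩ := hi.surj hy
      exact extAut_mem α (hP hx)
    have hM := mor_extAut hTS hα
    refine (Mor.conj_mor (F := D) hP' (extAut_mem α hg)).congr fun y hy => ?_
    obtain ⟨x, hx, rfl⟩ := hi.surj hy
    rw [extAut_inv_apply, ← hf ⟨x, hx⟩]
    exact hM.map_conj hg (hP hx)
  comp_mem {P Q φ ψ} hφ hψ h := by
    refine ⟨D.comp_mem hφ.1 hψ.1 h, fun α hα f hf P' hi => ?_⟩
    obtain ⟨f₁, hf₁, e₁⟩ := Mor.of_mem hφ.1
    obtain ⟨g, hg, e₂⟩ := Mor.of_mem hψ.1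
    obtain ⟨Q', hQ'⟩ := (mor_extAut hTS hα).exists_im (le_of_mem_hom hψ.1)
    have h1 := hφ.2 α hα f₁ (fun x => (e₁ x).symm) P' hi
    have h2 := hψ.2 α hα g (fun x => (e₂ x).symm) Q' hQ'
    refine (h1.comp h2 fun y hy => ?_).congr fun y hy => ?_
    · obtain ⟨x, hx, rfl⟩ := hi.surj hy
      rw [extAut_inv_apply]
      exact hQ'.mem (Set.mem_of_eq_of_mem (e₁ ⟨x, hx⟩) (h ⟨x, hx⟩))
    · obtain ⟨x, hx, rfl⟩ := hi.surj hy
      show extAut α (f (extAut α⁻¹ (extAut α x))) =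
        extAut α (g (extAut α⁻¹ (extAut α (f₁ (extAut α⁻¹ (extAut α x))))))
      rw [extAut_inv_apply, extAut_inv_apply, ← hf ⟨x, hx⟩, e₁ ⟨x, hx⟩]
      exact congrArg _ (e₂ ⟨φ ⟨x, hx⟩, h ⟨x, hx⟩⟩).symm
  inv_mem {P φ} hφ := by
    obtain ⟨ψ, hψ, h⟩ := D.inv_mem hφ.1
    refine ⟨ψ, ⟨hψ, fun α hα f hf P' hi => ?_⟩, h⟩
    obtain ⟨f₁, hf₁, e₁⟩ := Mor.of_mem hφ.1
    obtain ⟨P₁, hP₁⟩ := (mor_extAut hTS hα).exists_im (le_of_mem_hom hφ.1)
    have h1 := hφ.2 α hα f₁ (fun x => (e₁ x).symm) P₁ hP₁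
    have hI : Im (fun y => extAut α (f₁ (extAut α⁻¹ y))) P₁ P' := fun y => by
      rw [hi y]
      constructor
      · rintro ⟨_, ⟨x, rfl⟩, rfl⟩
        exact ⟨extAut α x, hP₁.mem x.2, by beta_reduce; rw [extAut_inv_apply, e₁]⟩
      · rintro ⟨z, hz, rfl⟩
        obtain ⟨x, hx, rfl⟩ := hP₁.surj hz
        refine ⟨φ ⟨x, hx⟩, ⟨_, rfl⟩, ?_⟩
        beta_reduce
        rw [extAut_inv_apply, e₁ ⟨x, hx⟩]
    obtain ⟨g, hg, -, hg1, -⟩ := h1.exists_inv hI
    refine hg.congr fun y hy => ?_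
    obtain ⟨z, hz, rfl⟩ := hI.surj hy
    rw [hg1 z hz]
    obtain ⟨x, hx, rfl⟩ := hP₁.surj hz
    rw [extAut_inv_apply, extAut_inv_apply, e₁ ⟨x, hx⟩, ← hf ⟨_, ⟨⟨x, hx⟩, rfl⟩⟩]
    exact congrArg _ (h ⟨x, hx⟩)

/-- The maps of `D` good on all their centric restrictions. -/
def goodPart (hTc : F.StronglyClosed T) (hD : D.IsSubsystemOf F) : FusionSystem T where
  Hom P := {φ | φ ∈ D.Hom P ∧ ∀ f : Ω → Ω, (∀ x : P, φ x = f x) →
    ∀ R, R ≤ P → TCentric F T R → GoodMap F T R f}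
  le_of_mem h := D.le_of_mem h.1
  injective_of_mem h := D.injective_of_mem h.1
  conj_mem {P g} hP hg := ⟨D.conj_mem hP hg, fun f hf R hR hc =>
    (goodMap_conj hTc.1 hc.1 hg).congr fun x hx => (hf ⟨x, hR hx⟩).symm⟩
  comp_mem {P Q φ ψ} hφ hψ h := by
    refine ⟨D.comp_mem hφ.1 hψ.1 h, fun f hf R hR hc => ?_⟩
    obtain ⟨f₁, hf₁, e₁⟩ := Mor.of_mem hφ.1
    obtain ⟨g, hg, e₂⟩ := Mor.of_mem hψ.1
    obtain ⟨R', hR'⟩ := hf₁.exists_im hR
    have hR'Q : R' ≤ Q := fun y hy => by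
      obtain ⟨x, hx, rfl⟩ := hR'.surj hy
      exact Set.mem_of_eq_of_mem (e₁ ⟨x, hR hx⟩) (h ⟨x, hR hx⟩)
    have hR'c : TCentric F T R' :=
      hc.image ((mor_of_subsystem hD hf₁).isConj hR hR') (hR'Q.trans (le_of_mem_hom hψ.1))
    refine ((hφ.2 f₁ (fun x => (e₁ x).symm) R hR hc).comp hTc hc hR'
      (hψ.2 g (fun x => (e₂ x).symm) R' hR'Q hR'c)).congr fun x hx => ?_
    rw [← hf ⟨x, hR hx⟩]
    show ψ ⟨φ ⟨x, hR hx⟩, h _⟩ = g (f₁ x)
    exact (e₂ ⟨φ ⟨x, hR hx⟩, h _⟩).symm.trans (congrArg g (e₁ ⟨x, hR hx⟩).symm)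
  inv_mem {P φ} hφ := by
    obtain ⟨ψ, hψ, h⟩ := D.inv_mem hφ.1
    refine ⟨ψ, ⟨hψ, fun f hf R hR hc => ?_⟩, h⟩
    obtain ⟨f₁, hf₁, e₁⟩ := Mor.of_mem hφ.1
    have hm : Mor D φ.range f := ⟨ψ, hψ, hf⟩
    obtain ⟨R₁, hR₁⟩ := hm.exists_im hR
    have hleft : ∀ y ∈ R, f₁ (f y) = y := fun y hy => by
      obtain ⟨x, rfl⟩ := hR hy
      rw [← hf ⟨φ x, x, rfl⟩, h x]
      exact e₁ x
    have hR₁P : R₁ ≤ P := fun b hb => by
      obtain ⟨y, hy, rfl⟩ := hR₁.surj hb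
      obtain ⟨x, rfl⟩ := hR hy
      rw [← hf ⟨φ x, x, rfl⟩, h x]
      exact x.2
    have hI : Im f₁ R₁ R := fun y => by
      constructor
      · intro hy
        exact ⟨f y, hR₁.mem hy, hleft y hy⟩
      · rintro ⟨b, hb, rfl⟩
        obtain ⟨y, hy, rfl⟩ := hR₁.surj hb
        rw [hleft y hy]
        exact hy
    have hR₁c : TCentric F T R₁ :=
      hc.image ((mor_of_subsystem hD hm).isConj hR hR₁) (hR₁P.trans (le_of_mem_hom hφ.1))
    refine (hφ.2 f₁ (fun x => (e₁ x).symm) R₁ hR₁P hR₁c).inv hTc hR₁c hI fun b hb => ?_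
    obtain ⟨y, hy, rfl⟩ := hR₁.surj hb
    rw [hleft y hy]

theorem tcentric_of_centric (hinv : E.IsInvariantIn F) {P : Subgroup Ω} (hP : E.IsCentric P) :
    TCentric F T P :=
  ⟨hP.1, fun _ hR => centralizerIn_le_of_isConj hinv hP hR⟩

theorem isCentric_of_tcentric (hsub : E.IsSubsystemOf F) {P : Subgroup Ω} (hP : TCentric F T P) :
    E.IsCentric P :=
  ⟨hP.1, fun _ hR => hP.2 _ (isConj_of_subsystem hsub hR)⟩

/-- A `p`-automorphism of a subgroup in a weakly normal subsystem is good. -/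
theorem pElement_good (hS : IsPGroup p S) (hE : E.IsWeaklyNormalIn F p) {P : Subgroup Ω}
    (hP : TCentric F T P) {u : MulAut P} (hu : u ∈ E.autGroup P) (hp : ∃ k : ℕ, u ^ p ^ k = 1)
    {f : Ω → Ω} (hf : ∀ x : P, f x = ((u x : P) : Ω)) : GoodMap F T P f := by
  obtain ⟨hEs, hF, hinv⟩ := hE
  have hTc := hinv.2.1
  have hTS := hTc.1
  haveI : Finite T := finite_of_le hTS
  obtain ⟨Q, hPQ, hQ⟩ := exists_fullyNormalized F (hP.1.trans hTS)
  obtain ⟨m, hm, hmi⟩ := isConj_iff_mor.1 hPQ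
  have hQT : Q ≤ T := fun y hy => by
    obtain ⟨x, hx, rfl⟩ := hmi.surj hy
    exact mor_T hinv hP.1 hm hx
  obtain ⟨e, hev, -⟩ := hm.exists_equiv le_rfl hmi
  have hβ := autGroup_transfer hinv hP.1 hm hmi e hev hu
  haveI : Finite Q := finite_of_le hQ.1
  haveI : Finite (MulAut Q) := finite_mulAut
  obtain ⟨-, R, hR⟩ := (good_of_fullyNormalized p (isPGroup_of_le hS hTS) hEs
    (fullyNormalized_sub p hS hF hTc hinv.1 hQT hQ)).1
  let β : E.autGroup Q := ⟨MulAut.congr e u, hβ⟩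
  obtain ⟨k, hk⟩ := hp
  have hB : IsPGroup p (Subgroup.zpowers β) := by
    refine IsPGroup.iff_card.2 ?_
    have h1 : β ^ p ^ k = 1 := Subtype.ext (by
      show (MulAut.congr e u) ^ p ^ k = 1
      rw [← map_pow, hk, map_one])
    obtain ⟨j, -, hj⟩ := (Nat.dvd_prime_pow Fact.out).1 (orderOf_dvd_of_pow_eq_one h1)
    exact ⟨j, by rw [Nat.card_zpowers, hj]⟩
  obtain ⟨T₁, hT₁⟩ := hB.exists_le_sylow
  obtain ⟨c, hc⟩ := MulAction.exists_smul_eq (E.autGroup Q) T₁ R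
  have h1 : c * β * c⁻¹ ∈ (R : Subgroup (E.autGroup Q)) := by
    rw [← hc, Sylow.coe_subgroup_smul]
    exact ⟨_, hT₁ (Subgroup.mem_zpowers β), rfl⟩
  rw [hR] at h1
  obtain ⟨t, ht, hte⟩ := mem_autInducedBy.1 (Subgroup.mem_subgroupOf.1 h1)
  obtain ⟨fc, hfc, hfci, hfce⟩ := exists_mor_of_aut hQ.1 (autGroup_mono' hinv.1 Q c.2)
  let ν : Ω → Ω := fc ∘ m
  have hν : Mor F P ν := hm.comp hfc fun x hx => hmi.mem hx
  have hνi : Im ν P Q := hmi.comp hfci
  -- on `Q` the automorphism is conjugation by `t`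
  have hconj : ∀ x : P, ν ((u x : P) : Ω) = t * ν x * t⁻¹ := fun x => by
    have h2 := hte (((c : MulAut Q)) (e x))
    change (((c : MulAut Q) ((MulAut.congr e u) ((c : MulAut Q)⁻¹ ((c : MulAut Q) (e x)))) : Q) : Ω) = _
      at h2
    rw [MulAut.inv_apply_self, ← hfce, ← hfce, hev] at h2
    have h3 : ((MulAut.congr e u (e x) : Q) : Ω) = m ((u x : P) : Ω) := by
      show ((e (u (e.symm (e x))) : Q) : Ω) = _
      rw [e.symm_apply_apply, hev]
    rw [h3] at h2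
    exact h2
  have htQ : t ∈ Subgroup.normalizer (Q : Set Ω) := mem_normalizer_of_aut hte
  obtain ⟨νp, hνp, hνpe⟩ := receptive_mor (N := centralizerIn S T)
    (good_of_fullyNormalized p hS hF hQ).2 hν hνi fun d hd => by
      refine ⟨hd.1, mem_normalizer_of_conj_mem (hP.1.trans hTS) fun x hx => ?_, 1, one_mem _,
        fun x hx => ?_⟩ <;> rw [← centralizerIn_comm hd (hP.1 hx), mul_inv_cancel_right]
      · exact hx
      · rw [one_mul, inv_one, mul_one]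
  rw [sup_comm] at hνp
  obtain ⟨V, hV⟩ := hνp.exists_im (le_refl _)
  have hQV : Q ≤ V := fun y hy => by
    obtain ⟨x, hx, rfl⟩ := hνi.surj hy
    rw [← hνpe x hx]
    exact hV.mem (Subgroup.mem_sup_left hx)
  have hz : ∀ d ∈ centralizerIn S T, (νp d)⁻¹ * (t * νp d * t⁻¹) ∈ Q := by
    intro d hd
    have hdS : νp d ∈ S := hνp.mem_S (Subgroup.mem_sup_right hd)
    have hcomm : ∀ y ∈ Q, y * νp d = νp d * y := fun y hy => by
      obtain ⟨x, hx, rfl⟩ := hνi.surj hy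
      rw [← hνpe x hx, ← hνp.map_mul (Subgroup.mem_sup_left hx) (Subgroup.mem_sup_right hd),
        ← hνp.map_mul (Subgroup.mem_sup_right hd) (Subgroup.mem_sup_left hx),
        centralizerIn_comm hd (hP.1 hx)]
    refine hP.2 Q hPQ (mem_centralizerIn.2 ⟨?_, fun y hy => ?_⟩)
    · have h4 := hTc.2 T le_rfl _ (F.conj_mem hTS (Subgroup.inv_mem _ hdS)) ⟨t, ht⟩
      have h5 := T.mul_mem h4 (T.inv_mem ht)
      simpa [mul_assoc] using h5
    · have hy' : t⁻¹ * y * t ∈ Q := (Subgroup.mem_normalizer_iff''.1 htQ y).1 hy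
      have e1 : y * (t * νp d * t⁻¹) = t * νp d * t⁻¹ * y := by
        calc y * (t * νp d * t⁻¹) = t * ((t⁻¹ * y * t) * νp d) * t⁻¹ := by group
          _ = t * (νp d * (t⁻¹ * y * t)) * t⁻¹ := by rw [hcomm _ hy']
          _ = t * νp d * t⁻¹ * y := by group
      have e2 : y * (νp d)⁻¹ = (νp d)⁻¹ * y := ((Commute.inv_right (hcomm y hy))).eq
      rw [← mul_assoc, e2, mul_assoc, e1, ← mul_assoc]
  obtain ⟨g, hg, hgi, hg1, -⟩ := hνp.exists_inv hV
  have hVS : V ≤ S := hg.le_S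
  have htV : ∀ y ∈ V, t * y * t⁻¹ ∈ V := by
    intro y hy
    obtain ⟨w, hw, rfl⟩ := hV.surj hy
    obtain ⟨x, hx, d, hd, rfl⟩ := exists_mul_of_mem_sup hP.1 hw
    rw [hνp.map_mul (Subgroup.mem_sup_left hx) (Subgroup.mem_sup_right hd), hνpe x hx]
    have e3 : t * (ν x * νp d) * t⁻¹ = (t * ν x * t⁻¹) * (νp d * ((νp d)⁻¹ * (t * νp d * t⁻¹))) := by
      group
    rw [e3]
    exact V.mul_mem (hQV ((Subgroup.mem_normalizer_iff.1 htQ _).1 (hνi.mem hx)))
      (V.mul_mem (hV.mem (Subgroup.mem_sup_right hd)) (hQV (hz d hd)))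
  refine ⟨fun w => g (t * νp w * t⁻¹), (hνp.comp (Mor.conj_mor (F := F) hVS (hTS ht))
    fun x hx => hV.mem hx).comp hg fun x hx => htV _ (hV.mem hx), fun x hx => ?_, fun d hd => ?_⟩
  · show g (t * νp x * t⁻¹) = f x
    rw [hνpe x hx, ← hconj ⟨x, hx⟩, ← hνpe _ (SetLike.coe_mem _),
      hg1 _ (Subgroup.mem_sup_left (SetLike.coe_mem _)), hf ⟨x, hx⟩]
  · show d⁻¹ * g (t * νp d * t⁻¹) ∈ T
    obtain ⟨x, hx, hxe⟩ := hνi.surj (hz d hd)
    have e4 : t * νp d * t⁻¹ = νp (d * x) := by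
      rw [hνp.map_mul (Subgroup.mem_sup_right hd) (Subgroup.mem_sup_left hx), hνpe x hx, hxe,
        mul_inv_cancel_left]
    rw [e4, hg1 _ (mul_mem (Subgroup.mem_sup_right hd) (Subgroup.mem_sup_left hx)),
      inv_mul_cancel_left]
    exact hP.1 hx

/-- An automorphism of `T` in `D` that is good on a centric subgroup is good. -/
theorem good_of_good_centric (hS : IsPGroup p S) (hE : E.IsWeaklyNormalIn F p)
    (hD : D.IsSubsystemOf E) {a : MulAut T} (ha : a ∈ D.autGroup T) {R : Subgroup Ω}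
    (hR : TCentric F T R) (hgood : GoodMap F T R (extAut a)) :
    GoodMap F T T (extAut a) := by
  obtain ⟨hEs, hF, hinv⟩ := id hE
  have hTc := hinv.2.1
  have hTS := hTc.1
  haveI : Finite T := finite_of_le hTS
  haveI : Finite (MulAut T) := finite_mulAut
  obtain ⟨j, m, hm, hj⟩ := Nat.exists_eq_pow_mul_and_not_dvd (orderOf_pos a).ne' p
    (Fact.out : p.Prime).ne_one
  have hcop : Nat.Coprime m (p ^ j) :=
    Nat.Coprime.pow_right j ((Fact.out : p.Prime).coprime_iff_not_dvd.2 hm).symm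
  obtain ⟨r, hr1, hr0⟩ := Nat.chineseRemainder hcop 1 0
  obtain ⟨r', hr'1, hr'0⟩ := Nat.chineseRemainder hcop 0 1
  have haE : a ∈ E.autGroup T := autGroup_mono' hD T ha
  have hsplit : a ^ r' * a ^ r = a := by
    rw [← pow_add]
    refine pow_eq_self_of_modEq (pow_orderOf_eq_one a) ?_
    rw [hj]
    exact (Nat.modEq_and_modEq_iff_modEq_mul hcop.symm).1
      ⟨by simpa using Nat.ModEq.add hr'0 hr0, by simpa using Nat.ModEq.add hr'1 hr1⟩
  have hap : ∃ k : ℕ, (a ^ r') ^ p ^ k = 1 := ⟨j, by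
    rw [← pow_mul]
    refine orderOf_dvd_iff_pow_eq_one.1 ?_
    rw [hj, mul_comm r']
    exact mul_dvd_mul_left _ (Nat.modEq_zero_iff_dvd.1 hr'1)⟩
  have hinn : a ^ r' ∈ Inn T :=
    pElement_sup_inn hS hE hE (Subgroup.mem_sup_left (pow_mem haE r')) hap
  obtain ⟨⟨t, ht⟩, hte⟩ := hinn
  have hval : ∀ x ∈ T, extAut (a ^ r') x = t * x * t⁻¹ := fun x hx => by
    rw [extAut_of_mem _ hx, ← hte]
    rfl
  have hgT : GoodMap F T T (extAut (a ^ r')) := (goodMap_conj hTS le_rfl ht).congr hval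
  have hgT' : GoodMap F T T (extAut (a ^ r')⁻¹) := by
    refine (goodMap_conj hTS le_rfl (T.inv_mem ht)).congr fun x hx => ?_
    have h1 := hval _ (extAut_mem (a ^ r')⁻¹ hx)
    rw [extAut_apply_inv] at h1
    conv_rhs => rw [h1]
    group
  have hTT : TCentric F T T := hR.mono hR.1 le_rfl
  obtain ⟨R', hR'⟩ := (mor_extAut hTS (autGroup_mono' hinv.1 T haE)).exists_im hR.1
  have hR'T : R' ≤ T := fun y hy => by
    obtain ⟨x, hx, rfl⟩ := hR'.surj hy
    exact extAut_mem a (hR.1 hx)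
  have hgood' : GoodMap F T R (extAut (a ^ r)) := by
    refine (hgood.comp hTc hR hR' (hgT'.mono hR'T)).congr fun x hx => ?_
    show extAut (a ^ r) x = extAut (a ^ r')⁻¹ (extAut a x)
    rw [show extAut a x = extAut (a ^ r') (extAut (a ^ r) x) by rw [← extAut_mul, hsplit], extAut_inv_apply]
  have hcop' : Nat.Coprime (orderOf (a ^ r)) p := by
    refine Nat.Coprime.coprime_dvd_left (orderOf_dvd_of_pow_eq_one ?_)
      ((Fact.out : p.Prime).coprime_iff_not_dvd.2 hm).symm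
    rw [← pow_mul]
    refine orderOf_dvd_iff_pow_eq_one.1 ?_
    rw [hj]
    exact mul_dvd_mul_right (Nat.modEq_zero_iff_dvd.1 hr0) m
  have hgTr := goodMap_of_restrict hS hF hTc (pow_mem (autGroup_mono' hinv.1 T haE) r) hcop' hR hgood'
  refine (hgTr.comp hTc hTT (fun y => ?_) hgT).congr fun x _ => ?_
  · exact ⟨fun hy => ⟨extAut (a ^ r)⁻¹ y, extAut_mem _ hy, extAut_apply_inv _ y⟩,
      fun ⟨x, hx, e⟩ => e ▸ extAut_mem _ hx⟩
  · show extAut a x = extAut (a ^ r') (extAut (a ^ r) x)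
    rw [← extAut_mul, hsplit]

/-- The residual is stable under the automorphisms of `T` and its maps are good. -/
theorem residual_parts (hS : IsPGroup p S) (hE : E.IsWeaklyNormalIn F p)
    (hD : E.IsPPrimeResidual p D) :
    (∀ P, D.Hom P ⊆ (twistPart hE.2.2.2.1.1 F D).Hom P) ∧
      ∀ P, D.Hom P ⊆ (goodPart hE.2.2.2.1 (fun Q φ h => hE.2.2.1 Q (hD.2.1.1 Q h))).Hom P := by
  obtain ⟨hDs, ⟨hDE, hidx⟩, hleast⟩ := hD
  obtain ⟨hEs, hF, hinv⟩ := id hE
  have hTc := hinv.2.1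
  have hTS := hTc.1
  haveI : Finite T := finite_of_le hTS
  have hT : IsPGroup p T := isPGroup_of_le hS hTS
  have hpD : ∀ {P : Subgroup Ω}, P ≤ T → ∀ {α : MulAut P}, α ∈ E.autGroup P →
      (∃ k : ℕ, α ^ p ^ k = 1) → α ∈ D.autGroup P := by
    intro P hP α hα hp
    obtain ⟨k, hk⟩ := hp
    obtain ⟨i, -, hi⟩ := (Nat.dvd_prime_pow Fact.out).1 (orderOf_dvd_of_pow_eq_one hk)
    exact hidx P hP ⟨⟨α, hα⟩, Subgroup.subset_closure ⟨i, by rw [← Subgroup.orderOf_coe]; exact hi⟩,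
      rfl⟩
  have hp : ∀ {P : Subgroup Ω} {α : E.autGroup P} {k : ℕ}, orderOf α = p ^ k →
      (α : MulAut P) ^ p ^ k = 1 := fun {P α k} hk => by
    rw [← hk, ← Subgroup.orderOf_coe]; exact pow_orderOf_eq_one _
  constructor
  · let I := twistPart hTS F D
    have hIpel : ∀ P, E.IsCentric P → (Subgroup.closure {α : E.autGroup P |
        ∃ k : ℕ, orderOf α = p ^ k}).map (E.autGroup P).subtype ≤ (meetGen E I).autGroup P := by
      intro P hP
      rw [MonoidHom.map_closure, Subgroup.closure_le]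
      rintro _ ⟨α, ⟨k, hk⟩, rfl⟩
      refine (autGroup_carrier hP.1).2 (mem_meetGen hP ((autGroup_carrier hP.1).1 α.2)
        ⟨(autGroup_carrier hP.1).1 (hpD hP.1 α.2 ⟨k, hp hk⟩), fun β hβ f hf P' hi => ?_⟩)
      have hP'T : P' ≤ T := fun y hy => by
        obtain ⟨x, hx, rfl⟩ := hi.surj hy
        exact extAut_mem β (hP.1 hx)
      have hM := (mor_extAut hTS hβ).mono hP.1
      obtain ⟨e, hev, -⟩ := hM.exists_equiv le_rfl hi
      have h2 := hpD hP'T (autGroup_transfer hinv hP.1 hM hi e hev α.2)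
        ⟨k, by rw [← map_pow, hp hk, map_one]⟩
      obtain ⟨u, hu, -, hue⟩ := exists_mor_of_aut hP'T h2
      refine hu.congr fun y hy => ?_
      obtain ⟨x, hx, rfl⟩ := hi.surj hy
      have h3 := hue (e ⟨x, hx⟩)
      rw [hev] at h3
      rw [h3, extAut_inv_apply, ← hf ⟨x, hx⟩]
      show _ = ((e ((α : MulAut P) (e.symm (e ⟨x, hx⟩))) : P') : Ω)
      rw [e.symm_apply_apply, hev]
      rfl
    have hext : ∀ (R : Subgroup Ω) (θ : R →* Ω), E.IsCentric R → θ ∈ E.Hom R → θ ∈ I.Hom R →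
        ∀ ψ ∈ E.Hom (extender T R θ),
          (∀ (x : Ω) (hx : x ∈ R) (hN : x ∈ extender T R θ), ψ ⟨x, hN⟩ = θ ⟨x, hx⟩) →
          ∃ χ ∈ E.Hom (extender T R θ), χ ∈ I.Hom (extender T R θ) ∧
            ∀ (x : Ω) (hx : x ∈ R) (hN : x ∈ extender T R θ), χ ⟨x, hN⟩ = θ ⟨x, hx⟩ := by
      intro R θ hR hθ hθI ψ hψ hψe
      have hRN := le_extender hθ
      refine ⟨ψ, hψ, ⟨mem_of_restrict_centric p hT hEs hDs hDE hψ hRN hR
        (restrict_mem_of_eq hθI.1 le_rfl fun x => hψe x x.2 (hRN x.2)),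
        fun β hβ f hf N' hi => ?_⟩, hψe⟩
      have hfE : Mor E (extender T R θ) f := ⟨ψ, hψ, hf⟩
      obtain ⟨χ, hχ, hχe⟩ := mor_twist hinv hβ hfE hi
      obtain ⟨R', hR'⟩ := (mor_extAut hTS hβ).exists_im hR.1
      have hR'N : R' ≤ N' := fun y hy => by
        obtain ⟨x, hx, rfl⟩ := hR'.surj hy
        exact hi.mem (hRN hx)
      have hR'c : E.IsCentric R' := isCentric_of_tcentric hinv.1
        ((tcentric_of_centric hinv hR).image ((mor_extAut hTS hβ).isConj hR.1 hR') fun y hy => by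
          obtain ⟨x, hx, rfl⟩ := hR'.surj hy
          exact extAut_mem β (hR.1 hx))
      obtain ⟨χ', hχ', hχ'e⟩ :=
        hθI.2 β hβ f (fun x => (hψe x x.2 (hRN x.2)).symm.trans (hf ⟨x, hRN x.2⟩)) R' hR'
      refine ⟨χ, mem_of_restrict_centric p hT hEs hDs hDE hχ hR'N hR'c ?_, hχe⟩
      exact restrict_mem_of_eq hχ' le_rfl fun x => (hχe _).trans (hχ'e x).symm
    obtain ⟨h1, h2⟩ := meetGen_saturated (E := E) (E' := I) hT hEs hIpel hext
    exact fun P φ hφ => meetGen_le_right P (hleast _ h1 h2 P hφ)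
  · have hDF : D.IsSubsystemOf F := fun Q φ h => hinv.1 Q (hDE Q h)
    let V := goodPart hTc hDF
    have hgoodpel : ∀ {P : Subgroup Ω}, E.IsCentric P → ∀ {α : MulAut P}, α ∈ E.autGroup P →
        (∃ k : ℕ, α ^ p ^ k = 1) → P.subtype.comp α.toMonoidHom ∈ V.Hom P := by
      intro P hP α hα hα'
      refine ⟨(autGroup_carrier hP.1).1 (hpD hP.1 hα hα'), fun f hf R hR _ => ?_⟩
      exact (pElement_good hS hE (tcentric_of_centric hinv hP) hα hα'
        fun x => (hf x).symm).mono hR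
    have hVpel : ∀ P, E.IsCentric P → (Subgroup.closure {α : E.autGroup P |
        ∃ k : ℕ, orderOf α = p ^ k}).map (E.autGroup P).subtype ≤ (meetGen E V).autGroup P := by
      intro P hP
      rw [MonoidHom.map_closure, Subgroup.closure_le]
      rintro _ ⟨α, ⟨k, hk⟩, rfl⟩
      exact (autGroup_carrier hP.1).2 (mem_meetGen hP ((autGroup_carrier hP.1).1 α.2)
        (hgoodpel hP α.2 ⟨k, hp hk⟩))
    have hVD : ∀ P, D.IsCentric P → (Subgroup.closure {α : D.autGroup P |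
        ∃ k : ℕ, orderOf α = p ^ k}).map (D.autGroup P).subtype ≤ (meetGen E V).autGroup P := by
      intro P hP
      rw [MonoidHom.map_closure, Subgroup.closure_le]
      rintro _ ⟨α, ⟨k, hk⟩, rfl⟩
      have hPE : E.IsCentric P := ((primeToP_of_centric (F := E) (E := D) p hT hEs hDE
        fun Q hQ => hidx Q hQ.1).2.2 P).1 hP
      have h1 : (α : MulAut P) ^ p ^ k = 1 := by
        rw [← hk, ← Subgroup.orderOf_coe]; exact pow_orderOf_eq_one _
      exact (autGroup_carrier hP.1).2 (mem_meetGen hPE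
        ((autGroup_carrier hP.1).1 (autGroup_mono' hDE P α.2))
        (hgoodpel hPE (autGroup_mono' hDE P α.2) ⟨k, h1⟩))
    have hext : ∀ (R : Subgroup Ω) (θ : R →* Ω), E.IsCentric R → θ ∈ E.Hom R → θ ∈ V.Hom R →
        ∀ ψ ∈ E.Hom (extender T R θ),
          (∀ (x : Ω) (hx : x ∈ R) (hN : x ∈ extender T R θ), ψ ⟨x, hN⟩ = θ ⟨x, hx⟩) →
          ∃ χ ∈ E.Hom (extender T R θ), χ ∈ V.Hom (extender T R θ) ∧
            ∀ (x : Ω) (hx : x ∈ R) (hN : x ∈ extender T R θ), χ ⟨x, hN⟩ = θ ⟨x, hx⟩ := by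
      intro R θ hR hθ hθV ψ hψ hψe
      have hRN := le_extender hθ
      have hψD : ψ ∈ D.Hom (extender T R θ) := mem_of_restrict_centric p hT hEs hDs hDE hψ hRN hR
        (restrict_mem_of_eq hθV.1 le_rfl fun x => hψe x x.2 (hRN x.2))
      refine ⟨ψ, hψ, ⟨hψD, fun f hf W hW hWc => ?_⟩, hψe⟩
      obtain ⟨a, ha, φ₀, hφ₀, he⟩ := (primeToP_of_centric (F := D) (E := meetGen E V) p hT hDs
        (fun Q ψ' h => (meetGen_le_right Q h).1) hVD).2.1 _ ψ hψD
      have hφ₀V := meetGen_le_right _ hφ₀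
      obtain ⟨m, hm, hme⟩ := Mor.of_mem hφ₀
      have hfa : ∀ x ∈ extender T R θ, f x = extAut a (m x) := fun x hx => by
        rw [← hf ⟨x, hx⟩, hme ⟨x, hx⟩, extAut_of_mem a (apply_mem_S hφ₀ _)]
        exact he ⟨x, hx⟩ _
      have hmF : Mor F (extender T R θ) m :=
        mor_of_subsystem (fun Q φ' h => hDF Q (meetGen_le_right (E := E) (E' := V) Q h).1) hm
      have hgoodm : ∀ W ≤ extender T R θ, TCentric F T W → GoodMap F T W m := fun W hW hc =>
        hφ₀V.2 m (fun x => (hme x).symm) W hW hc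
      have hRc := tcentric_of_centric hinv hR
      obtain ⟨R₁, hR₁⟩ := hm.exists_im hRN
      obtain ⟨mi, hmi, hmii, hmi1, -⟩ := (hm.mono hRN).exists_inv hR₁
      have hR₁T : R₁ ≤ T := hm.im_le_S hRN hR₁
      have hR₁c : TCentric F T R₁ := hRc.image (hmF.isConj hRN hR₁) hR₁T
      have hθgood : GoodMap F T R f :=
        hθV.2 f (fun x => (hψe x x.2 (hRN x.2)).symm.trans (hf ⟨x, hRN x.2⟩)) R le_rfl hRc
      have ha₁ : GoodMap F T R₁ (extAut a) := by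
        refine (((hgoodm R hRN hRc).inv hTc hRc hR₁ hmi1).comp hTc hR₁c hmii hθgood).congr
          fun y hy => ?_
        obtain ⟨x, hx, rfl⟩ := hR₁.surj hy
        show extAut a (m x) = f (mi (m x))
        rw [hmi1 x hx, hfa x (hRN hx)]
      have haT := good_of_good_centric hS hE hDE ha hR₁c ha₁
      obtain ⟨W₁, hW₁⟩ := hm.exists_im hW
      refine ((hgoodm W hW hWc).comp hTc hWc hW₁ (haT.mono (hm.im_le_S hW hW₁))).congr
        fun x hx => hfa x (hW hx)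
    obtain ⟨h1, h2⟩ := meetGen_saturated (E := E) (E' := V) hT hEs hVpel hext
    exact fun P φ hφ => meetGen_le_right P (hleast _ h1 h2 P hφ)

/-- **Normality of the `p'`-residual.** -/
theorem pPrimeResidual_normal (hS : IsPGroup p S) (hE : E.IsWeaklyNormalIn F p)
    (hD : E.IsPPrimeResidual p D) : D.IsNormalIn F p := by
  obtain ⟨htw, hgd⟩ := residual_parts hS hE hD
  obtain ⟨hDs, ⟨hDE, hidx⟩, -⟩ := id hD
  obtain ⟨hEs, hF, hinv⟩ := id hE
  have hTc := hinv.2.1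
  have hTS := hTc.1
  haveI : Finite T := finite_of_le hTS
  have hT : IsPGroup p T := isPGroup_of_le hS hTS
  have hDF : D.IsSubsystemOf F := fun Q φ h => hinv.1 Q (hDE Q h)
  refine ⟨⟨hDs, hF, hDF, hTc, fun P hPT φ hφ α hα => ?_, fun P hPT φ hφ => ?_⟩, fun α hα => ?_⟩
  · obtain ⟨f, hf, hfe⟩ := Mor.of_mem hφ
    obtain ⟨P', hP'⟩ := (mor_extAut hTS hα).exists_im hPT
    obtain ⟨χ, hχ, hχe⟩ := (htw P hφ).2 α hα f (fun x => (hfe x).symm) P' hP'
    have hle : (P.subgroupOf T).map (T.subtype.comp α.toMonoidHom) ≤ P' := by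
      rintro _ ⟨x, hx, rfl⟩
      exact Set.mem_of_eq_of_mem (extAut_of_mem α x.2).symm (hP'.mem hx)
    refine ⟨_, restrict_mem hχ hle, fun x hφx hαx => ?_⟩
    refine (hχe _).trans ?_
    show extAut α (f (extAut α⁻¹ ((α ⟨x, hPT x.2⟩ : T) : Ω))) = _
    rw [← extAut_of_mem α (hPT x.2), extAut_inv_apply, hfe x, extAut_of_mem α hφx]
  · obtain ⟨β, hβ, e, he, hfe⟩ := hinv.2.2.2 P hPT φ hφ
    obtain ⟨γ, hγ, d, hd, hde⟩ := (primeToP_of_centric (F := E) (E := D) p hT hEs hDE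
      fun Q hQ => hidx Q hQ.1).2.1 P e he
    refine ⟨β * γ, mul_mem hβ (autGroup_mono' hinv.1 T hγ), d, hd, fun x hx => ?_⟩
    rw [hfe x (apply_mem_S he x), MulAut.mul_apply]
    exact congrArg (fun z : T => ((β z : T) : Ω)) (Subtype.ext (hde x hx))
  · let U := T ⊔ centralizerIn S T
    have hTT : TCentric F T T := tcentric_of_centric hinv isCentric_S
    obtain ⟨f, hf, hfi, hfe⟩ := exists_mor_of_aut le_rfl hα
    obtain ⟨b, hb, hbe, hbc⟩ := (hgd T ((autGroup_carrier le_rfl).1 hα)).2 f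
      (fun x => (hfe x).symm) T le_rfl hTT
    obtain ⟨β, hβ, hβe⟩ := hb.exists_aut le_rfl (good_image hTc hTT hb (hfi.congr hbe) hbc)
    refine ⟨β, hβ, fun x => ?_, fun c hc => ?_⟩
    · rw [hβe]
      show b (x : Ω) = _
      rw [hbe x x.2, hfe]
    · rw [hβe]
      refine ⟨hbc c hc, Subgroup.mul_mem _ (Subgroup.inv_mem _ hc.2) fun y hy => ?_⟩
      obtain ⟨x, hx, rfl⟩ := hfi.surj hy
      rw [← hbe x hx, ← hb.map_mul (Subgroup.mem_sup_left hx) c.2,
        ← hb.map_mul c.2 (Subgroup.mem_sup_left hx), centralizerIn_comm hc hx]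

end CfsgLib.Fusion
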