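import Cfsg.Agent.Fusion.PPrime.Meet
import Cfsg.Agent.Fusion.Tate

/-!
Extensions of maps of `T` that act trivially on `C_S(T)` modulo `T`: such extensions pass from a
centric subgroup of `T` up to `T` for automorphisms of order prime to `p`.
-/

set_option autoImplicit false
set_option linter.unusedSectionVars false
set_option linter.style.haveILetI false

open Cfsg Cfsg.FusionSystem

namespace CfsgLib.Fusion

variable {Ω : Type*} [Group Ω] {S T : Subgroup Ω} [Finite S] {F : FusionSystem S}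

/-- Every subgroup conjugate to `P` contains its centralizer in `T`. -/
def TCentric (F : FusionSystem S) (T P : Subgroup Ω) : Prop :=
  P ≤ T ∧ ∀ R, F.IsConj P R → centralizerIn T R ≤ R

theorem TCentric.self {P : Subgroup Ω} (h : TCentric F T P) (hTS : T ≤ S) :
    centralizerIn T P ≤ P := h.2 P (isConj_refl (h.1.trans hTS))

theorem TCentric.mono {P N : Subgroup Ω} (h : TCentric F T P) (hPN : P ≤ N) (hNT : N ≤ T) :
    TCentric F T N := by
  refine ⟨hNT, fun R hR c hc => ?_⟩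
  obtain ⟨f, hf, hfi⟩ := isConj_iff_mor.1 hR
  obtain ⟨W, hW⟩ := hf.exists_im hPN
  have hWR : W ≤ R := fun y hy => by
    obtain ⟨x, hx, rfl⟩ := hW.surj hy
    exact hfi.mem (hPN hx)
  exact hWR (h.2 W (hf.isConj hPN hW) (mem_centralizerIn.2 ⟨hc.1, fun x hx => hc.2 x (hWR hx)⟩))

theorem TCentric.image {P Q : Subgroup Ω} (h : TCentric F T P) (hPQ : F.IsConj P Q)
    (hQT : Q ≤ T) : TCentric F T Q :=
  ⟨hQT, fun R hR => h.2 R (isConj_trans hPQ hR)⟩

/-- `f` extends to `P ⊔ C_S(T)` acting trivially on `C_S(T)` modulo `T`. -/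
def GoodMap (F : FusionSystem S) (T P : Subgroup Ω) (f : Ω → Ω) : Prop :=
  ∃ b : Ω → Ω, Mor F (P ⊔ centralizerIn S T) b ∧ (∀ x ∈ P, b x = f x) ∧
    ∀ c ∈ centralizerIn S T, c⁻¹ * b c ∈ T

theorem centralizerIn_comm {c x : Ω} (hc : c ∈ centralizerIn S T) (hx : x ∈ T) : x * c = c * x :=
  hc.2 x hx

theorem le_normalizer_centralizerIn {P : Subgroup Ω} (hP : P ≤ T) :
    P ≤ Subgroup.normalizer (centralizerIn S T : Set Ω) := fun x hx => by
  rw [Subgroup.mem_normalizer_iff]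
  intro c
  constructor
  · intro hc
    rwa [centralizerIn_comm hc (hP hx), mul_inv_cancel_right]
  · intro hc
    have h := centralizerIn_comm hc (hP hx)
    have h1 : c = x * c * x⁻¹ := by
      have := congrArg (fun z => x⁻¹ * z) h
      simp only [mul_assoc, inv_mul_cancel_left] at this
      calc c = c * (x⁻¹ * x) := by group
        _ = x * (c * x⁻¹) := this.symm
        _ = x * c * x⁻¹ := by group
    rwa [h1]

/-- The elements of `P C_S(T)`. -/
theorem exists_mul_of_mem_sup {P : Subgroup Ω} (hP : P ≤ T) {x : Ω}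
    (hx : x ∈ P ⊔ centralizerIn S T) : ∃ u ∈ P, ∃ c ∈ centralizerIn S T, x = u * c := by
  have h : x ∈ ((P ⊔ centralizerIn S T : Subgroup Ω) : Set Ω) := hx
  rw [Subgroup.coe_mul_of_left_le_normalizer_right P _ (le_normalizer_centralizerIn hP)] at h
  obtain ⟨u, hu, c, hc, rfl⟩ := h
  exact ⟨u, hu, c, hc, rfl⟩

theorem mem_of_mem_sup {P : Subgroup Ω} (hP : P ≤ T) (hc : centralizerIn T P ≤ P) {x : Ω}
    (hx : x ∈ P ⊔ centralizerIn S T) (hxT : x ∈ T) : x ∈ P := by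
  obtain ⟨u, hu, c, hcC, rfl⟩ := exists_mul_of_mem_sup hP hx
  refine P.mul_mem hu (hc (mem_centralizerIn.2 ⟨?_, fun y hy => centralizerIn_comm hcC (hP hy)⟩))
  have := T.mul_mem (Subgroup.inv_mem _ (hP hu)) hxT
  rwa [inv_mul_cancel_left] at this

theorem GoodMap.congr {P : Subgroup Ω} {f g : Ω → Ω} (h : GoodMap F T P f)
    (e : ∀ x ∈ P, g x = f x) : GoodMap F T P g := by
  obtain ⟨b, hb, hbe, hbc⟩ := h
  exact ⟨b, hb, fun x hx => (hbe x hx).trans (e x hx).symm, hbc⟩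

theorem GoodMap.mono {P W : Subgroup Ω} {f : Ω → Ω} (h : GoodMap F T P f) (hW : W ≤ P) :
    GoodMap F T W f := by
  obtain ⟨b, hb, hbe, hbc⟩ := h
  exact ⟨b, hb.mono (sup_le_sup_right hW _), fun x hx => hbe x (hW hx), hbc⟩

theorem goodMap_conj (hTS : T ≤ S) {P : Subgroup Ω} (hP : P ≤ T) {t : Ω} (ht : t ∈ T) :
    GoodMap F T P (fun x => t * x * t⁻¹) := by
  refine ⟨_, Mor.conj_mor (sup_le (hP.trans hTS) (centralizerIn_le_S T)) (hTS ht),
    fun _ _ => rfl, fun c hc => ?_⟩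
  show c⁻¹ * (t * c * t⁻¹) ∈ T
  rw [centralizerIn_comm hc ht, mul_inv_cancel_right, inv_mul_cancel]
  exact one_mem _

/-- The image of the domain of a good extension. -/
theorem good_image (hTc : F.StronglyClosed T) {P Q : Subgroup Ω} (hP : TCentric F T P)
    {b : Ω → Ω} (hb : Mor F (P ⊔ centralizerIn S T) b) (hi : Im b P Q)
    (hbc : ∀ c ∈ centralizerIn S T, c⁻¹ * b c ∈ T) :
    Im b (P ⊔ centralizerIn S T) (Q ⊔ centralizerIn S T) := by
  have hQ : F.IsConj P Q := hb.isConj le_sup_left hi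
  obtain ⟨φ, hφ, hφb⟩ := hb
  have hQT : Q ≤ T := fun y hy => by
    obtain ⟨x, hx, rfl⟩ := hi.surj hy
    exact Set.mem_of_eq_of_mem (hφb ⟨x, Subgroup.mem_sup_left hx⟩).symm
      (hTc.2 P hP.1 _ (restrict_mem hφ le_sup_left) ⟨x, hx⟩)
  have hb : Mor F (P ⊔ centralizerIn S T) b := ⟨φ, hφ, hφb⟩
  have hd : ∀ c ∈ centralizerIn S T, c⁻¹ * b c ∈ Q := by
    intro c hc
    refine hP.2 Q hQ (mem_centralizerIn.2 ⟨hbc c hc, fun y hy => ?_⟩)
    obtain ⟨x, hx, rfl⟩ := hi.surj hy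
    have h1 : b x * b c = b c * b x := by
      rw [← hb.map_mul (Subgroup.mem_sup_left hx) (Subgroup.mem_sup_right hc),
        ← hb.map_mul (Subgroup.mem_sup_right hc) (Subgroup.mem_sup_left hx),
        centralizerIn_comm hc (hP.1 hx)]
    have h2 : b x * c⁻¹ = c⁻¹ * b x := centralizerIn_comm (Subgroup.inv_mem _ hc) (hQT hy)
    rw [← mul_assoc, h2, mul_assoc, h1, mul_assoc]
  intro y
  constructor
  · intro hy
    obtain ⟨u, hu, c, hc, rfl⟩ := exists_mul_of_mem_sup hQT hy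
    obtain ⟨x, hx, hxe⟩ := hi.surj (Q.mul_mem hu (Subgroup.inv_mem _ (hd c hc)))
    refine ⟨x * c, mul_mem (Subgroup.mem_sup_left hx) (Subgroup.mem_sup_right hc), ?_⟩
    rw [hb.map_mul (Subgroup.mem_sup_left hx) (Subgroup.mem_sup_right hc), hxe]
    have h5 := centralizerIn_comm hc (hQT (Q.inv_mem (hd c hc)))
    calc u * (c⁻¹ * b c)⁻¹ * b c = u * ((c⁻¹ * b c)⁻¹ * c) * (c⁻¹ * b c) := by group
      _ = u * (c * (c⁻¹ * b c)⁻¹) * (c⁻¹ * b c) := by rw [h5]
      _ = u * c := by group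
  · rintro ⟨z, hz, rfl⟩
    obtain ⟨x, hx, c, hc, rfl⟩ := exists_mul_of_mem_sup hP.1 hz
    rw [hb.map_mul (Subgroup.mem_sup_left hx) (Subgroup.mem_sup_right hc)]
    refine mul_mem (Subgroup.mem_sup_left (hi.mem hx)) ?_
    have := mul_mem (Subgroup.mem_sup_right (S := Q) hc) (Subgroup.mem_sup_left (hd c hc))
    rwa [mul_inv_cancel_left] at this

theorem GoodMap.comp (hTc : F.StronglyClosed T) {P Q : Subgroup Ω} {f g : Ω → Ω}
    (hP : TCentric F T P) (hf : GoodMap F T P f) (hi : Im f P Q) (hg : GoodMap F T Q g) :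
    GoodMap F T P (g ∘ f) := by
  obtain ⟨b, hb, hbe, hbc⟩ := hf
  obtain ⟨d, hd, hde, hdc⟩ := hg
  have hbi : Im b P Q := hi.congr hbe
  have himg := good_image hTc hP hb hbi hbc
  have hQT : Q ≤ T := fun y hy => by
    obtain ⟨x, hx, rfl⟩ := hbi.surj hy
    obtain ⟨φ, hφ, hφb⟩ := hb
    exact Set.mem_of_eq_of_mem (hφb ⟨x, Subgroup.mem_sup_left hx⟩).symm
      (hTc.2 P hP.1 _ (restrict_mem hφ le_sup_left) ⟨x, hx⟩)
  refine ⟨d ∘ b, hb.comp hd fun x hx => himg.mem hx, fun x hx => ?_, fun c hc => ?_⟩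
  · show d (b x) = g (f x)
    rw [hbe x hx, hde _ (hi.mem hx)]
  · have hz : c⁻¹ * b c ∈ Q := by
      refine mem_of_mem_sup (S := S) hQT (hP.2 Q (hb.isConj le_sup_left hbi)) ?_ (hbc c hc)
      exact mul_mem (Subgroup.mem_sup_right (Subgroup.inv_mem _ hc))
        (himg.mem (Subgroup.mem_sup_right hc))
    show c⁻¹ * d (b c) ∈ T
    rw [show b c = c * (c⁻¹ * b c) by group, hd.map_mul (Subgroup.mem_sup_right hc)
      (Subgroup.mem_sup_left hz), ← mul_assoc]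
    refine T.mul_mem (hdc c hc) ?_
    obtain ⟨φ, hφ, hφd⟩ := hd
    exact Set.mem_of_eq_of_mem (hφd ⟨_, Subgroup.mem_sup_left hz⟩).symm
      (hTc.2 Q hQT _ (restrict_mem hφ le_sup_left) ⟨_, hz⟩)

theorem GoodMap.inv (hTc : F.StronglyClosed T) {P Q : Subgroup Ω} {f g : Ω → Ω}
    (hP : TCentric F T P) (hf : GoodMap F T P f) (hi : Im f P Q)
    (hg : ∀ x ∈ P, g (f x) = x) : GoodMap F T Q g := by
  obtain ⟨b, hb, hbe, hbc⟩ := hf
  have hbi : Im b P Q := hi.congr hbe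
  have himg := good_image hTc hP hb hbi hbc
  obtain ⟨d, hd, hdi, hd1, hd2⟩ := hb.exists_inv himg
  refine ⟨d, hd, fun y hy => ?_, fun c hc => ?_⟩
  · obtain ⟨x, hx, rfl⟩ := hi.surj hy
    rw [← hbe x hx, hd1 x (Subgroup.mem_sup_left hx), hbe x hx, hg x hx]
  · have hdc : d c ∈ P ⊔ centralizerIn S T := hdi.mem (Subgroup.mem_sup_right hc)
    obtain ⟨u, hu, c', hc', he⟩ := exists_mul_of_mem_sup hP.1 hdc
    have h1 : b u * b c' = c := by
      rw [← hb.map_mul (Subgroup.mem_sup_left hu) (Subgroup.mem_sup_right hc'), ← he,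
        hd2 c (Subgroup.mem_sup_right hc)]
    obtain ⟨φ, hφ, hφb⟩ := hb
    have hbu : b u ∈ T := Set.mem_of_eq_of_mem (hφb ⟨u, Subgroup.mem_sup_left hu⟩).symm
      (hTc.2 P hP.1 _ (restrict_mem hφ le_sup_left) ⟨u, hu⟩)
    have h2 : c⁻¹ * d c = (c'⁻¹ * b c')⁻¹ * (c'⁻¹ * (b u)⁻¹ * u * c') := by
      rw [he, ← h1]; group
    rw [h2]
    refine T.mul_mem (Subgroup.inv_mem _ (hbc c' hc')) ?_
    have h3 : c'⁻¹ * ((b u)⁻¹ * u) * c' = (b u)⁻¹ * u := by
      rw [mul_assoc, centralizerIn_comm hc' (T.mul_mem (Subgroup.inv_mem _ hbu) (hP.1 hu)),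
        inv_mul_cancel_left]
    rw [mul_assoc c'⁻¹, h3]
    exact T.mul_mem (Subgroup.inv_mem _ hbu) (hP.1 hu)

variable {p : ℕ} [Fact p.Prime]

theorem pow_fixed_shift {G : Type*} [Group G] (w : MulAut G) {g z : G} (hg : w g = g * z)
    (hz : w z = z) (n : ℕ) : (w ^ n) g = g * z ^ n := by
  induction n with
  | zero => simp
  | succ n ih =>
    rw [pow_succ', MulAut.mul_apply, ih, map_mul, map_pow, hg, hz, pow_succ', mul_assoc]

/-- Automorphisms of `X` of the system fixing `P` pointwise and trivial modulo `P`. -/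
def pStab (F : FusionSystem S) (P X : Subgroup Ω) : Subgroup (F.autGroup X) where
  carrier := {γ | (∀ x : X, (x : Ω) ∈ P → (γ : MulAut X) x = x) ∧
    ∀ x : X, (((x⁻¹ * (γ : MulAut X) x : X)) : Ω) ∈ P}
  one_mem' := ⟨fun _ _ => rfl, fun x => by
    show ((x⁻¹ * x : X) : Ω) ∈ P
    rw [inv_mul_cancel]; exact P.one_mem⟩
  mul_mem' := fun {a b} ha hb => by
    refine ⟨fun x hx => ?_, fun x => ?_⟩
    · show (a : MulAut X) ((b : MulAut X) x) = x
      rw [hb.1 x hx, ha.1 x hx]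
    · show ((x⁻¹ * (a : MulAut X) ((b : MulAut X) x) : X) : Ω) ∈ P
      have h1 : (x⁻¹ * (a : MulAut X) ((b : MulAut X) x) : X) =
          x⁻¹ * (b : MulAut X) x * (((b : MulAut X) x)⁻¹ * (a : MulAut X) ((b : MulAut X) x)) := by
        group
      rw [h1]
      exact P.mul_mem (hb.2 x) (ha.2 _)
  inv_mem' := fun {a} ha => by
    refine ⟨fun x hx => ?_, fun x => ?_⟩
    · show (a : MulAut X)⁻¹ x = x
      conv_lhs => rw [← ha.1 x hx, MulAut.inv_apply_self]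
    · show ((x⁻¹ * (a : MulAut X)⁻¹ x : X) : Ω) ∈ P
      have h := Subgroup.inv_mem P (ha.2 ((a : MulAut X)⁻¹ x))
      rwa [MulAut.apply_inv_self, ← Subgroup.coe_inv, mul_inv_rev, inv_inv] at h

theorem isPGroup_pStab (hS : IsPGroup p S) {P X : Subgroup Ω} (hX : X ≤ S) :
    IsPGroup p (pStab F P X) := by
  haveI : Finite X := finite_of_le hX
  obtain ⟨j, hj⟩ := IsPGroup.iff_card.1 (isPGroup_of_le hS hX)
  intro γ
  refine ⟨j, Subtype.ext (Subtype.ext (MulEquiv.ext fun x => ?_))⟩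
  show (((γ : F.autGroup X) : MulAut X) ^ p ^ j) x = x
  rw [pow_fixed_shift _ (g := x) (z := x⁻¹ * ((γ : F.autGroup X) : MulAut X) x)
    (mul_inv_cancel_left _ _).symm (γ.2.1 _ (γ.2.2 x)), ← hj, pow_card_eq_one', mul_one]

/-- An automorphism of order prime to `p` of `C_S(T)` modulo `T` induced from a centralizer of a
centric subgroup is induced from the centralizer of `T`. -/
theorem exists_fixing_T (hS : IsPGroup p S) (hF : F.IsSaturated p) (hTc : F.StronglyClosed T) :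
    ∀ {P : Subgroup Ω}, TCentric F T P → ∀ (k : Ω → Ω) (m : ℕ), ¬ p ∣ m →
      Mor F (P ⊔ centralizerIn S T) k → (∀ x ∈ P, k x = x) →
      Im k (P ⊔ centralizerIn S T) (P ⊔ centralizerIn S T) →
      (∀ x ∈ P ⊔ centralizerIn S T, x⁻¹ * k^[m] x ∈ T) →
      ∃ K : Ω → Ω, Mor F (T ⊔ centralizerIn S T) K ∧ (∀ x ∈ T, K x = x) ∧
        Im K (T ⊔ centralizerIn S T) (T ⊔ centralizerIn S T) ∧
        ∀ c ∈ centralizerIn S T, (k c)⁻¹ * K c ∈ T := by
  have hTS := hTc.1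
  haveI : Finite T := finite_of_le hTS
  have hT : IsPGroup p T := isPGroup_of_le hS hTS
  intro P
  induction hn : Nat.card T - Nat.card P using Nat.strong_induction_on generalizing P with
  | _ n IH =>
  subst hn
  intro hP k m hm hk hkP hki hkm
  rcases hP.1.eq_or_lt with heq | hlt
  · subst heq
    exact ⟨k, hk, hkP, hki, fun c _ => by rw [inv_mul_cancel]; exact one_mem _⟩
  let C := centralizerIn S T
  let X := P ⊔ C
  have hXS : X ≤ S := hk.le_S
  haveI : Finite X := finite_of_le hXS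
  haveI : Finite (MulAut X) := finite_mulAut
  let N := normalizerIn T P
  have hPN : P < N := lt_normalizerIn p hT le_rfl hlt
  have hNT : N ≤ T := normalizerIn_le_S P
  have hNS : N ≤ S := hNT.trans hTS
  have hnC : ∀ n ∈ N, ∀ c ∈ C, n * c * n⁻¹ = c := fun n hn c hc => by
    rw [centralizerIn_comm hc (hNT hn), mul_inv_cancel_right]
  have hnX : ∀ n ∈ N, ∀ x ∈ X, n * x * n⁻¹ ∈ X ∧ x⁻¹ * (n * x * n⁻¹) ∈ P := by
    intro n hn x hx
    obtain ⟨u, hu, c, hc, rfl⟩ := exists_mul_of_mem_sup hP.1 hx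
    have h1 : n * (u * c) * n⁻¹ = n * u * n⁻¹ * c := by
      conv_rhs => rw [← hnC n hn c hc]
      group
    have hnu : n * u * n⁻¹ ∈ P := (Subgroup.mem_normalizer_iff.1 hn.2 u).1 hu
    refine ⟨h1 ▸ mul_mem (Subgroup.mem_sup_left hnu) (Subgroup.mem_sup_right hc), ?_⟩
    rw [h1]
    have h2 : (u * c)⁻¹ * (n * u * n⁻¹ * c) = c⁻¹ * (u⁻¹ * (n * u * n⁻¹)) * c := by group
    have h3 := P.mul_mem (Subgroup.inv_mem _ hu) hnu
    rw [h2, mul_assoc, centralizerIn_comm hc (hP.1 h3), inv_mul_cancel_left]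
    exact h3
  have hNX : N ≤ Subgroup.normalizer (X : Set Ω) := fun n hn =>
    mem_normalizer_of_conj_mem hXS fun x hx => (hnX n hn x hx).1
  have hNle : N ≤ normalizerIn S X := fun n hn => ⟨hNS hn, hNX hn⟩
  let Φ : N →* F.autGroup X := ((conjAut S X).comp (Subgroup.inclusion hNle)).codRestrict _ fun n =>
    autInducedBy_le_autGroup hXS (mem_autInducedBy.2 ⟨n, hNS n.2, fun _ => rfl⟩)
  have hΦ : ∀ (n : N) (x : X), (((Φ n : F.autGroup X) : MulAut X) x : Ω) = n * x * (n : Ω)⁻¹ :=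
    fun _ _ => rfl
  obtain ⟨κ, hκ, hκe⟩ := hk.exists_aut le_rfl hki
  let κ' : F.autGroup X := ⟨κ, hκ⟩
  let W := pStab F P X
  have hnorm : Φ.range ≤ Subgroup.normalizer (W : Set (F.autGroup X)) := by
    rintro _ ⟨n, rfl⟩
    have key : ∀ (n : N) (w : F.autGroup X), w ∈ W → Φ n * w * (Φ n)⁻¹ ∈ W := by
      intro n w hw
      refine ⟨fun x hx => ?_, fun x => ?_⟩
      · show ((Φ n : F.autGroup X) : MulAut X) ((w : MulAut X)
          (((Φ n : F.autGroup X) : MulAut X)⁻¹ x)) = x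
        have h1 : ((((Φ n : F.autGroup X) : MulAut X)⁻¹ x : X) : Ω) ∈ P := by
          rw [← Subgroup.coe_inv, ← map_inv, hΦ]
          exact (Subgroup.mem_normalizer_iff.1 (Subgroup.inv_mem _ n.2.2) _).1 hx
        rw [hw.1 _ h1, MulAut.apply_inv_self]
      · obtain ⟨y, rfl⟩ := ((Φ n : F.autGroup X) : MulAut X).surjective x
        show (((((Φ n : F.autGroup X) : MulAut X) y)⁻¹ * ((Φ n : F.autGroup X) : MulAut X)
          ((w : MulAut X) (((Φ n : F.autGroup X) : MulAut X)⁻¹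
            (((Φ n : F.autGroup X) : MulAut X) y))) : X) : Ω) ∈ P
        rw [MulAut.inv_apply_self, ← map_inv, ← map_mul, hΦ]
        exact (Subgroup.mem_normalizer_iff.1 n.2.2 _).1 (hw.2 y)
    rw [Subgroup.mem_normalizer_iff]
    intro w
    refine ⟨key n w, fun h => ?_⟩
    have := key n⁻¹ _ h
    simpa [mul_assoc] using this
  have hB : IsPGroup p (Φ.range ⊔ W : Subgroup (F.autGroup X)) :=
    IsPGroup.to_sup_of_normal_right' ((isPGroup_of_le hS hNS).of_surjective _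
      Φ.rangeRestrict_surjective) (isPGroup_pStab hS hXS) hnorm
  have hkn : ∀ n : N, κ' * Φ n * κ'⁻¹ ∈ Φ.range ⊔ W := by
    intro n
    have hw : (Φ n)⁻¹ * (κ' * Φ n * κ'⁻¹) ∈ W := by
      have hκP : ∀ x : X, (x : Ω) ∈ P → κ x = x := fun x hx =>
        Subtype.ext ((hκe x).trans (hkP _ hx))
      refine ⟨fun x hx => ?_, fun x => ?_⟩
      · show ((Φ n : F.autGroup X) : MulAut X)⁻¹ (κ (((Φ n : F.autGroup X) : MulAut X) (κ⁻¹ x))) = x
        have h1 : κ⁻¹ x = x := by conv_lhs => rw [← hκP x hx, MulAut.inv_apply_self]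
        have h2 : ((((Φ n : F.autGroup X) : MulAut X) x : X) : Ω) ∈ P :=
          (Subgroup.mem_normalizer_iff.1 n.2.2 _).1 hx
        rw [h1, hκP _ h2, MulAut.inv_apply_self]
      · show ((x⁻¹ * ((Φ n : F.autGroup X) : MulAut X)⁻¹
          (κ (((Φ n : F.autGroup X) : MulAut X) (κ⁻¹ x))) : X) : Ω) ∈ P
        obtain ⟨y, rfl⟩ := κ.surjective x
        rw [MulAut.inv_apply_self]
        let z : X := y⁻¹ * ((Φ n : F.autGroup X) : MulAut X) y
        have hz : (z : Ω) ∈ P := (hnX n n.2 y y.2).2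
        have h3 : ((Φ n : F.autGroup X) : MulAut X) y = y * z := (mul_inv_cancel_left _ _).symm
        rw [h3, map_mul, hκP z hz, map_mul]
        have h4 : ((κ y)⁻¹ * (((Φ n : F.autGroup X) : MulAut X)⁻¹ (κ y) *
            ((Φ n : F.autGroup X) : MulAut X)⁻¹ z) : X) =
            ((κ y)⁻¹ * ((Φ n⁻¹ : F.autGroup X) : MulAut X) (κ y)) *
              ((Φ n⁻¹ : F.autGroup X) : MulAut X) z := by
          rw [map_inv, Subgroup.coe_inv, mul_assoc]
        rw [h4, Subgroup.coe_mul]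
        refine P.mul_mem (hnX (n⁻¹ : N) (n⁻¹ : N).2 (κ y) (κ y).2).2 ?_
        exact (Subgroup.mem_normalizer_iff.1 (n⁻¹ : N).2.2 _).1 hz
    have h5 := Subgroup.mul_mem _ (Subgroup.mem_sup_left (S := Φ.range) (T := W) (x := Φ n) ⟨n, rfl⟩)
      (Subgroup.mem_sup_right (S := Φ.range) hw)
    rwa [mul_inv_cancel_left] at h5
  -- move the `p`-group into `Aut_S` of a good conjugate
  obtain ⟨X₁, hXX₁, hX₁⟩ := exists_fullyNormalized F hXS
  obtain ⟨⟨hX₁S, R, hR⟩, hX₁r⟩ := good_of_fullyNormalized p hS hF hX₁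
  obtain ⟨f₀, hf₀, hf₀i⟩ := isConj_iff_mor.1 hXX₁
  obtain ⟨e, hev, hea⟩ := hf₀.exists_equiv le_rfl hf₀i
  haveI : Finite X₁ := finite_of_le hX₁S
  haveI : Finite (MulAut X₁) := finite_mulAut
  let Ψ : F.autGroup X →* F.autGroup X₁ :=
    ((MulAut.congr e).toMonoidHom.comp (F.autGroup X).subtype).codRestrict _ fun γ => by
      rw [← hea]
      exact ⟨γ, γ.2, rfl⟩
  obtain ⟨T₁, hT₁⟩ := (hB.map Ψ).exists_le_sylow
  obtain ⟨d, hd⟩ := MulAction.exists_smul_eq (F.autGroup X₁) T₁ R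
  obtain ⟨fd, hfd, hfdi, hfde⟩ := exists_mor_of_aut hX₁S d.2
  let f : Ω → Ω := fd ∘ f₀
  have hf : Mor F X f := hf₀.comp hfd fun x hx => hf₀i.mem hx
  have hfi : Im f X X₁ := hf₀i.comp hfdi
  have hval : ∀ w : X, f w = ((((d : F.autGroup X₁) : MulAut X₁) (e w) : X₁) : Ω) := fun w => by
    rw [← hfde, hev]
    rfl
  have hmove : ∀ γ ∈ Φ.range ⊔ W, ∃ h ∈ S, ∀ x : X,
      f (((γ : MulAut X) x : X) : Ω) = h * f x * h⁻¹ := by
    intro γ hγ
    have h1 : d * Ψ γ * d⁻¹ ∈ (R : Subgroup (F.autGroup X₁)) := by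
      rw [← hd, Sylow.coe_subgroup_smul]
      exact ⟨_, hT₁ ⟨γ, hγ, rfl⟩, rfl⟩
    rw [hR] at h1
    obtain ⟨h, hh, hhe⟩ := mem_autInducedBy.1 (Subgroup.mem_subgroupOf.1 h1)
    refine ⟨h, hh, fun x => ?_⟩
    rw [hval, hval, ← hhe]
    show _ = ((((d : F.autGroup X₁) : MulAut X₁) (e ((γ : MulAut X) (e.symm
      (((d : F.autGroup X₁) : MulAut X₁)⁻¹ (((d : F.autGroup X₁) : MulAut X₁) (e x)))))) : X₁) : Ω)
    rw [MulAut.inv_apply_self, e.symm_apply_apply]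
  obtain ⟨g, hg, hge⟩ := receptive_mor (N := N) hX₁r hf hfi fun n hn => by
    refine ⟨hNS hn, hNX hn, ?_⟩
    obtain ⟨h, hh, hhe⟩ := hmove (Φ ⟨n, hn⟩) (Subgroup.mem_sup_left ⟨⟨n, hn⟩, rfl⟩)
    exact ⟨h, hh, fun x hx => hhe ⟨x, hx⟩⟩
  obtain ⟨g', hg', hg'e⟩ := receptive_mor (N := N) hX₁r (hk.comp hf fun x hx => hki.mem hx)
    (hki.comp hfi) fun n hn => by
    refine ⟨hNS hn, hNX hn, ?_⟩
    obtain ⟨h, hh, hhe⟩ := hmove _ (hkn ⟨n, hn⟩)
    refine ⟨h, hh, fun x hx => ?_⟩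
    have h1 := hhe (κ ⟨x, hx⟩)
    change f ((κ (((Φ ⟨n, hn⟩ : F.autGroup X) : MulAut X) (κ⁻¹ (κ ⟨x, hx⟩))) : X) : Ω) = _ at h1
    rw [MulAut.inv_apply_self, hκe, hκe, hΦ] at h1
    exact h1
  have hU : N ⊔ X = N ⊔ C := by
    show N ⊔ (P ⊔ C) = _
    rw [← sup_assoc, sup_eq_left.2 hPN.le]
  rw [hU] at hg hg'
  have hXU : X ≤ N ⊔ C := sup_le_sup_right hPN.le C
  have hPU : P ≤ N ⊔ C := le_sup_left.trans hXU
  obtain ⟨P₁, hP₁⟩ := hg.exists_im hPU
  have hP₁c : F.IsConj P P₁ := hg.isConj hPU hP₁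
  have hdiffN : ∀ n ∈ N, (g n)⁻¹ * g' n ∈ P₁ := by
    intro n hn
    have hgT : ∀ {h : Ω → Ω}, Mor F (N ⊔ C) h → h n ∈ T := fun {h} hh => by
      obtain ⟨φ, hφ, hφe⟩ := hh
      exact Set.mem_of_eq_of_mem (hφe ⟨n, Subgroup.mem_sup_left hn⟩).symm
        (hTc.2 N hNT _ (restrict_mem hφ le_sup_left) ⟨n, hn⟩)
    refine hP.2 P₁ hP₁c (mem_centralizerIn.2 ⟨T.mul_mem (Subgroup.inv_mem _ (hgT hg)) (hgT hg'),
      fun y hy => ?_⟩)
    obtain ⟨x, hx, rfl⟩ := hP₁.surj hy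
    have hsame : ∀ u ∈ P, g' u = g u := fun u hu => by
      rw [hg'e u (Subgroup.mem_sup_left hu), hge u (Subgroup.mem_sup_left hu)]
      show f (k u) = _
      rw [hkP u hu]
    have hnx : n * x * n⁻¹ ∈ P := (Subgroup.mem_normalizer_iff.1 hn.2 x).1 hx
    have h1 := hg'.map_conj (Subgroup.mem_sup_left hn) (hPU hx)
    rw [hsame x hx, hsame _ hnx, hg.map_conj (Subgroup.mem_sup_left hn) (hPU hx)] at h1
    calc g x * ((g n)⁻¹ * g' n) = (g n)⁻¹ * (g n * g x * (g n)⁻¹) * g' n := by group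
      _ = (g n)⁻¹ * (g' n * g x * (g' n)⁻¹) * g' n := by rw [h1]
      _ = (g n)⁻¹ * g' n * g x := by group
  obtain ⟨V, hV⟩ := hg.exists_im (le_refl (N ⊔ C))
  obtain ⟨V', hV'⟩ := hg'.exists_im (le_refl (N ⊔ C))
  have hV'V : V' ≤ V := by
    intro y hy
    obtain ⟨w, hw, rfl⟩ := hV'.surj hy
    obtain ⟨n, hn, c, hc, rfl⟩ := exists_mul_of_mem_sup hNT hw
    rw [hg'.map_mul (Subgroup.mem_sup_left hn) (Subgroup.mem_sup_right hc)]
    have hcX : c ∈ X := Subgroup.mem_sup_right hc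
    refine V.mul_mem ?_ ?_
    · obtain ⟨x, hx, hxe⟩ := hP₁.surj (hdiffN n hn)
      have := V.mul_mem (hV.mem (Subgroup.mem_sup_left hn)) (hV.mem (hPU hx))
      rwa [hxe, mul_inv_cancel_left] at this
    · rw [hg'e c hcX]
      show f (k c) ∈ V
      rw [← hge _ (hki.mem hcX)]
      exact hV.mem (hXU (hki.mem hcX))
  have hVeq : V' = V := eq_of_le_of_card_le (hg.im_le_S le_rfl hV) hV'V
    (by rw [hg.card_im le_rfl hV, hg'.card_im le_rfl hV'])
  rw [hVeq] at hV'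
  obtain ⟨gi, hgi, hgii, hgi1, -⟩ := hg.exists_inv hV
  -- the extension of `k`
  let k₁ : Ω → Ω := gi ∘ g'
  have hk₁ : Mor F (N ⊔ C) k₁ := hg'.comp hgi fun x hx => hV'.mem hx
  have hk₁i : Im k₁ (N ⊔ C) (N ⊔ C) := hV'.comp hgii
  have hk₁X : ∀ x ∈ X, k₁ x = k x := fun x hx => by
    show gi (g' x) = k x
    rw [hg'e x hx]
    show gi (f (k x)) = k x
    rw [← hge _ (hki.mem hx), hgi1 _ (hXU (hki.mem hx))]
  have hk₁N : ∀ n ∈ N, ∃ z ∈ P, k₁ n = n * z := fun n hn => by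
    obtain ⟨x, hx, hxe⟩ := hP₁.surj (hdiffN n hn)
    refine ⟨x, hx, ?_⟩
    show gi (g' n) = n * x
    have h1 : g' n = g (n * x) := by
      rw [hg.map_mul (Subgroup.mem_sup_left hn) (hPU hx), hxe, mul_inv_cancel_left]
    rw [h1, hgi1 _ (mul_mem (Subgroup.mem_sup_left hn) (hPU hx))]
  obtain ⟨τ, hτ, hτe⟩ := hk₁.exists_aut le_rfl hk₁i
  haveI : Finite (N ⊔ C : Subgroup Ω) := finite_of_le hk₁.le_S
  obtain ⟨j, hj⟩ := IsPGroup.iff_card.1 (isPGroup_of_le hS hk₁.le_S)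
  have hτN : ∀ w : ↥(N ⊔ C), (w : Ω) ∈ N → (τ ^ p ^ j) w = w := by
    intro w hw
    obtain ⟨z, hz, hze⟩ := hk₁N w hw
    let zz : ↥(N ⊔ C) := ⟨z, hPU hz⟩
    rw [pow_fixed_shift τ (g := w) (z := zz) (Subtype.ext ((hτe w).trans hze))
      (Subtype.ext ((hτe zz).trans ((hk₁X z (Subgroup.mem_sup_left hz)).trans (hkP z hz)))),
      ← hj, pow_card_eq_one', mul_one]
  obtain ⟨ε, hε1, hε0⟩ := Nat.chineseRemainder
    (Nat.Coprime.pow_right j ((Fact.out : p.Prime).coprime_iff_not_dvd.2 hm).symm) 1 0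
  obtain ⟨q, hq⟩ := Nat.modEq_zero_iff_dvd.1 hε0
  obtain ⟨k₂, hk₂, hk₂i, hk₂e⟩ := exists_mor_of_aut hk₁.le_S (pow_mem hτ ε)
  have hk₂N : ∀ x ∈ N, k₂ x = x := fun x hx => by
    rw [hk₂e ⟨x, Subgroup.mem_sup_left hx⟩, hq, pow_mul]
    have hfix : ∀ r : ℕ, ((τ ^ p ^ j) ^ r) ⟨x, Subgroup.mem_sup_left hx⟩ =
        ⟨x, Subgroup.mem_sup_left hx⟩ := fun r => by
      induction r with
      | zero => rfl
      | succ r ih => rw [pow_succ', MulAut.mul_apply, ih, hτN _ hx]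
    exact congrArg Subtype.val (hfix q)
  have hk₂X : ∀ x ∈ X, k₂ x = k^[ε] x := fun x hx => by
    rw [hk₂e ⟨x, hXU hx⟩]
    have hit : ∀ r : ℕ, (((τ ^ r) ⟨x, hXU hx⟩ : ↥(N ⊔ C)) : Ω) = k^[r] x ∧ k^[r] x ∈ X := by
      intro r
      induction r with
      | zero => exact ⟨rfl, hx⟩
      | succ r ih =>
        rw [Function.iterate_succ_apply']
        refine ⟨?_, hki.mem ih.2⟩
        rw [pow_succ', MulAut.mul_apply, hτe, ih.1, hk₁X _ ih.2]
    exact (hit ε).1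
  -- congruences modulo `T`
  have hTn : S ≤ Subgroup.normalizer (T : Set Ω) := fun s hs =>
    mem_normalizer_of_conj_mem hTS fun x hx => hTc.2 T le_rfl _ (F.conj_mem hTS hs) ⟨x, hx⟩
  have hcongr : ∀ {x y : Ω}, x ∈ X → y ∈ X → x⁻¹ * y ∈ T → (k x)⁻¹ * k y ∈ T := by
    intro x y hx hy hxy
    have hP' : x⁻¹ * y ∈ P :=
      mem_of_mem_sup hP.1 (hP.self hTS) (mul_mem (Subgroup.inv_mem _ hx) hy) hxy
    rw [← hk.map_inv hx, ← hk.map_mul (Subgroup.inv_mem _ hx) hy, hkP _ hP']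
    exact hxy
  have hkX : ∀ (r : ℕ) {x : Ω}, x ∈ X → k^[r] x ∈ X := by
    intro r
    induction r with
    | zero => exact fun hx => hx
    | succ r ih =>
      intro x hx
      rw [Function.iterate_succ_apply']
      exact hki.mem (ih hx)
  have hper : ∀ (r : ℕ) {x : Ω}, x ∈ X → x⁻¹ * k^[m * r] x ∈ T := by
    intro r
    induction r with
    | zero => intro x _; simp
    | succ r ih =>
      intro x hx
      have h1 := hkm _ (hkX (m * r) hx)
      have h2 := T.mul_mem (ih hx) h1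
      rw [mul_assoc, mul_inv_cancel_left, ← Function.iterate_add_apply, add_comm] at h2
      rwa [mul_add, mul_one]
  have hεm : ∀ {x : Ω}, x ∈ X → (k x)⁻¹ * k^[ε] x ∈ T := by
    intro x hx
    rcases Nat.eq_zero_or_pos ε with h0 | hpos
    · have hm1 : m = 1 := by
        rw [h0] at hε1
        exact Nat.eq_one_of_dvd_one ((Nat.modEq_iff_dvd' (by omega)).1 hε1)
      rw [h0]
      have h1 := hkm x hx
      rw [hm1, Function.iterate_one] at h1
      have := Subgroup.inv_mem _ h1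
      rwa [mul_inv_rev, inv_inv] at this
    · obtain ⟨r, hr⟩ := (Nat.modEq_iff_dvd' hpos).1 hε1.symm
      have he : ε = m * r + 1 := by omega
      rw [he, Function.iterate_add_apply, Function.iterate_one]
      exact hper r (hki.mem hx)
  have hNc : TCentric F T N := hP.mono hPN.le hNT
  have hlt' : Nat.card T - Nat.card N < Nat.card T - Nat.card P := by
    haveI : Finite N := finite_of_le hNS
    have h2 : Nat.card P < Nat.card N :=
      lt_of_not_ge fun h => hPN.ne (eq_of_le_of_card_le hNS hPN.le h)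
    have h3 := card_le_of_le le_rfl hNT
    omega
  obtain ⟨K, hK, hKT, hKi, hKc⟩ := IH _ hlt' rfl hNc k₂ m hm hk₂ hk₂N hk₂i (by
    intro x hx
    obtain ⟨n, hn, c, hc, rfl⟩ := exists_mul_of_mem_sup hNT hx
    have hcX : c ∈ X := Subgroup.mem_sup_right hc
    have hit : ∀ r : ℕ, k₂^[r] (n * c) = n * k₂^[r] c ∧ k₂^[r] c ∈ X := by
      intro r
      induction r with
      | zero => exact ⟨rfl, hcX⟩
      | succ r ih =>
        rw [Function.iterate_succ_apply', Function.iterate_succ_apply', ih.1,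
          hk₂.map_mul (Subgroup.mem_sup_left hn) (hXU ih.2), hk₂N n hn]
        refine ⟨rfl, ?_⟩
        rw [hk₂X _ ih.2]
        exact hkX ε ih.2
    have hit2 : ∀ r : ℕ, k₂^[r] c = k^[ε * r] c := by
      intro r
      induction r with
      | zero => rfl
      | succ r ih =>
        rw [Function.iterate_succ_apply', hk₂X _ (hit r).2, ih, ← Function.iterate_add_apply,
          mul_add, mul_one, add_comm]
    rw [(hit m).1, hit2]
    have h1 : (n * c)⁻¹ * (n * k^[ε * m] c) = c⁻¹ * k^[ε * m] c := by group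
    rw [h1, mul_comm]
    exact hper ε hcX)
  refine ⟨K, hK, hKT, hKi, fun c hc => ?_⟩
  have hcX : c ∈ X := Subgroup.mem_sup_right hc
  have h1 := T.mul_mem (hεm hcX) (hk₂X c hcX ▸ hKc c hc)
  rwa [mul_assoc, mul_inv_cancel_left] at h1

/-- An automorphism of `T` of order prime to `p` that is good on a centric subgroup is good. -/
theorem goodMap_of_restrict (hS : IsPGroup p S) (hF : F.IsSaturated p) (hTc : F.StronglyClosed T)
    {a : MulAut T} (ha : a ∈ F.autGroup T) (hord : Nat.Coprime (orderOf a) p) {P : Subgroup Ω}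
    (hP : TCentric F T P) (hgood : GoodMap F T P (extAut a)) : GoodMap F T T (extAut a) := by
  have hTS := hTc.1
  haveI : Finite T := finite_of_le hTS
  let C := centralizerIn S T
  let U := T ⊔ C
  have hUS : U ≤ S := sup_le hTS (centralizerIn_le_S T)
  haveI : Finite U := finite_of_le hUS
  haveI : Finite (MulAut U) := finite_mulAut
  have hTn : S ≤ Subgroup.normalizer (T : Set Ω) := fun s hs =>
    mem_normalizer_of_conj_mem hTS fun x hx => hTc.2 T le_rfl _ (F.conj_mem hTS hs) ⟨x, hx⟩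
  have hTfn : F.IsFullyNormalized T :=
    ⟨hTS, fun Q _ => card_le_of_le (normalizerIn_le_S T) fun g hg => ⟨hg.1, hTn hg.1⟩⟩
  have hrec := (good_of_fullyNormalized p hS hF hTfn).2
  have hi : Im (extAut a) T T := fun y => by
    constructor
    · intro hy
      exact ⟨extAut a⁻¹ y, extAut_mem _ hy, extAut_apply_inv a y⟩
    · rintro ⟨x, hx, rfl⟩; exact extAut_mem a hx
  obtain ⟨B₀, hB₀, hB₀e⟩ := receptive_mor (N := C) hrec (mor_extAut hTS ha) hi fun c hc => by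
    refine ⟨hc.1, centralizer_le_normalizer' T hc.2, 1, one_mem _, fun x hx => ?_⟩
    rw [← centralizerIn_comm hc hx, mul_inv_cancel_right, one_mul, inv_one, mul_one]
  rw [sup_comm] at hB₀
  obtain ⟨V, hV⟩ := hB₀.exists_im (le_refl U)
  have hVU : V ≤ U := fun y hy => by
    obtain ⟨w, hw, rfl⟩ := hV.surj hy
    obtain ⟨t, ht, c, hc, rfl⟩ := exists_mul_of_mem_sup le_rfl hw
    rw [hB₀.map_mul (Subgroup.mem_sup_left ht) (Subgroup.mem_sup_right hc), hB₀e t ht]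
    refine mul_mem (Subgroup.mem_sup_left (extAut_mem a ht)) (Subgroup.mem_sup_right
      (mem_centralizerIn.2 ⟨hB₀.mem_S (Subgroup.mem_sup_right hc), fun y hy => ?_⟩))
    obtain ⟨x, hx, rfl⟩ := hi.surj hy
    rw [← hB₀e x hx, ← hB₀.map_mul (Subgroup.mem_sup_left hx) (Subgroup.mem_sup_right hc),
      ← hB₀.map_mul (Subgroup.mem_sup_right hc) (Subgroup.mem_sup_left hx),
      centralizerIn_comm hc hx]
  rw [eq_of_le_of_card_le hUS hVU (hB₀.card_im le_rfl hV).ge] at hV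
  obtain ⟨β₀, hβ₀, hβ₀e⟩ := hB₀.exists_aut le_rfl hV
  obtain ⟨e, m, hm, he⟩ := Nat.exists_eq_pow_mul_and_not_dvd (orderOf_pos β₀).ne' p
    (Fact.out : p.Prime).ne_one
  obtain ⟨r, hr1, hr0⟩ := Nat.chineseRemainder (Nat.Coprime.pow_right e hord) 1 0
  have har : a ^ r = a := pow_eq_self_of_modEq (pow_orderOf_eq_one _) hr1
  have hβm : (β₀ ^ r) ^ m = 1 := by
    rw [← pow_mul]
    refine orderOf_dvd_iff_pow_eq_one.1 ?_
    rw [he]
    exact mul_dvd_mul_right (Nat.modEq_zero_iff_dvd.1 hr0) m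
  obtain ⟨B, hB, hBi, hBe⟩ := exists_mor_of_aut hUS (pow_mem hβ₀ r)
  have hBT : ∀ x ∈ T, B x = extAut a x := by
    intro x hx
    rw [hBe ⟨x, Subgroup.mem_sup_left hx⟩]
    have hit : ∀ n : ℕ, (((β₀ ^ n) ⟨x, Subgroup.mem_sup_left hx⟩ : U) : Ω) = extAut (a ^ n) x := by
      intro n
      induction n with
      | zero => exact (extAut_one x).symm
      | succ n ih =>
        rw [pow_succ', MulAut.mul_apply, hβ₀e, ih, pow_succ', extAut_mul,
          hB₀e _ (extAut_mem _ hx)]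
    rw [hit, har]
  obtain ⟨b, hb, hbe, hbc⟩ := hgood
  obtain ⟨Q, hQ⟩ := hb.exists_im (le_sup_left : P ≤ P ⊔ C)
  have himg := good_image hTc hP hb hQ hbc
  obtain ⟨bi, hbi, hbii, hbi1, hbi2⟩ := hb.exists_inv himg
  have hXU : P ⊔ C ≤ U := sup_le_sup_right hP.1 C
  have hBC : ∀ c ∈ C, B c ∈ C := fun c hc => mem_centralizerIn.2
    ⟨hB.mem_S (Subgroup.mem_sup_right hc), fun y hy => by
      obtain ⟨x, hx, rfl⟩ := hi.surj hy
      rw [← hBT x hx, ← hB.map_mul (Subgroup.mem_sup_left hx) (Subgroup.mem_sup_right hc),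
        ← hB.map_mul (Subgroup.mem_sup_right hc) (Subgroup.mem_sup_left hx),
        centralizerIn_comm hc hx]⟩
  have hBQ : ∀ x ∈ P ⊔ C, B x ∈ Q ⊔ C := fun x hx => by
    obtain ⟨u, hu, c, hc, rfl⟩ := exists_mul_of_mem_sup hP.1 hx
    rw [hB.map_mul (Subgroup.mem_sup_left (hP.1 hu)) (Subgroup.mem_sup_right hc)]
    refine mul_mem (Subgroup.mem_sup_left ?_) (Subgroup.mem_sup_right (hBC c hc))
    rw [hBT u (hP.1 hu), ← hbe u hu]
    exact hQ.mem hu
  let k : Ω → Ω := bi ∘ B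
  have hk : Mor F (P ⊔ C) k := (hB.mono hXU).comp hbi hBQ
  have hkP : ∀ x ∈ P, k x = x := fun x hx => by
    show bi (B x) = x
    rw [hBT x (hP.1 hx), ← hbe x hx, hbi1 x (Subgroup.mem_sup_left hx)]
  obtain ⟨W, hW⟩ := hk.exists_im (le_refl (P ⊔ C))
  have hWX : W ≤ P ⊔ C := fun y hy => by
    obtain ⟨x, hx, rfl⟩ := hW.surj hy
    exact hbii.mem (hBQ x hx)
  rw [eq_of_le_of_card_le hk.le_S hWX (hk.card_im le_rfl hW).ge] at hW
  -- `k` and `B` agree modulo `T`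
  have hcong : ∀ x ∈ P ⊔ C, (k x)⁻¹ * B x ∈ T := by
    intro x hx
    have hy : k x ∈ P ⊔ C := hW.mem hx
    have hby : b (k x) = B x := hbi2 _ (hBQ x hx)
    obtain ⟨u, hu, c, hc, he'⟩ := exists_mul_of_mem_sup hP.1 hy
    rw [← hby, he', hb.map_mul (Subgroup.mem_sup_left hu) (Subgroup.mem_sup_right hc), hbe u hu]
    have h1 : (u * c)⁻¹ * (extAut a u * b c) = c⁻¹ * (u⁻¹ * extAut a u) * c * (c⁻¹ * b c) := by
      group
    have h2 := T.mul_mem (Subgroup.inv_mem _ (hP.1 hu)) (extAut_mem a (hP.1 hu))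
    rw [h1, mul_assoc c⁻¹, centralizerIn_comm hc h2, inv_mul_cancel_left]
    exact T.mul_mem h2 (hbc c hc)
  have hBcong : ∀ {x y : Ω}, x ∈ U → y ∈ U → x⁻¹ * y ∈ T → (B x)⁻¹ * B y ∈ T := by
    intro x y hx hy hxy
    rw [← hB.map_inv hx, ← hB.map_mul (Subgroup.inv_mem _ hx) hy, hBT _ hxy]
    exact extAut_mem a hxy
  have hkm : ∀ x ∈ P ⊔ C, x⁻¹ * k^[m] x ∈ T := by
    intro x hx
    have hit : ∀ n : ℕ, k^[n] x ∈ P ⊔ C ∧ B^[n] x ∈ U ∧
        (k^[n] x)⁻¹ * B^[n] x ∈ T ∧ B^[n] x = ((((β₀ ^ r) ^ n) ⟨x, hXU hx⟩ : U) : Ω) := by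
      intro n
      induction n with
      | zero =>
        refine ⟨hx, hXU hx, ?_, rfl⟩
        show x⁻¹ * x ∈ T
        rw [inv_mul_cancel]; exact one_mem _
      | succ n ih =>
        obtain ⟨h1, h2, h3, h4⟩ := ih
        rw [Function.iterate_succ_apply', Function.iterate_succ_apply']
        refine ⟨hW.mem h1, hBi.mem h2, ?_, ?_⟩
        · have := T.mul_mem (hcong _ h1) (hBcong (hXU h1) h2 h3)
          rwa [mul_assoc, mul_inv_cancel_left] at this
        · rw [h4, hBe, ← MulAut.mul_apply, ← pow_succ']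
    obtain ⟨-, -, h3, h4⟩ := hit m
    rw [hβm] at h4
    have h5 := Subgroup.inv_mem _ h3
    rw [mul_inv_rev, inv_inv, h4] at h5
    exact h5
  obtain ⟨K, hK, hKT, hKi, hKc⟩ := exists_fixing_T hS hF hTc hP k m hm hk hkP hW hkm
  obtain ⟨Ki, hKii, hKiim, hKi1, hKi2⟩ := hK.exists_inv hKi
  refine ⟨B ∘ Ki, hKii.comp hB fun x hx => hKiim.mem hx, fun x hx => ?_, fun c hc => ?_⟩
  · show B (Ki x) = extAut a x
    have h1 : Ki x = x := by
      conv_lhs => rw [← hKT x hx, hKi1 x (Subgroup.mem_sup_left hx)]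
    rw [h1, hBT x hx]
  · show c⁻¹ * B (Ki c) ∈ T
    have hy : Ki c ∈ U := hKiim.mem (Subgroup.mem_sup_right hc)
    have hKy : K (Ki c) = c := hKi2 c (Subgroup.mem_sup_right hc)
    obtain ⟨t, ht, c', hc', he'⟩ := exists_mul_of_mem_sup le_rfl hy
    have hKyB : (K (Ki c))⁻¹ * B (Ki c) ∈ T := by
      rw [he', hK.map_mul (Subgroup.mem_sup_left ht) (Subgroup.mem_sup_right hc'), hKT t ht,
        hB.map_mul (Subgroup.mem_sup_left ht) (Subgroup.mem_sup_right hc'), hBT t ht]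
      have h1 : (k c')⁻¹ * B c' ∈ T := hcong c' (Subgroup.mem_sup_right hc')
      have h2 : (K c')⁻¹ * B c' ∈ T := by
        have := T.mul_mem (Subgroup.inv_mem _ (hKc c' hc')) h1
        rwa [mul_inv_rev, inv_inv, mul_assoc, mul_inv_cancel_left] at this
      have h3 := T.mul_mem (Subgroup.inv_mem _ ht) (extAut_mem a ht)
      have h4 : (t * K c')⁻¹ * (extAut a t * B c') =
          (K c')⁻¹ * (t⁻¹ * extAut a t) * ((K c')⁻¹)⁻¹ * ((K c')⁻¹ * B c') := by group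
      rw [h4]
      exact T.mul_mem ((Subgroup.mem_normalizer_iff.1
        (hTn (Subgroup.inv_mem _ (hK.mem_S (Subgroup.mem_sup_right hc')))) _).1 h3) h2
    rwa [hKy] at hKyB

end CfsgLib.Fusion
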