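import Cfsg.Agent.Fusion.HGen.Mor
import Cfsg.Agent.Fusion.Invariant

/-!
Invariant subsystems in terms of functions: twisting by automorphisms of `T`, the maps that are an
automorphism from a given group after a map of the subsystem, and their `p`-automorphisms.
-/

set_option autoImplicit false
set_option linter.unusedSectionVars false
set_option linter.style.haveILetI false

open Cfsg Cfsg.FusionSystem

namespace CfsgLib.Fusion

variable {Ω : Type*} [Group Ω] {S T : Subgroup Ω} {F : FusionSystem S} {E : FusionSystem T}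

open Classical in
/-- An automorphism of `T`, extended by the identity outside `T`. -/
noncomputable def extAut (α : MulAut T) (x : Ω) : Ω :=
  if h : x ∈ T then ((α ⟨x, h⟩ : T) : Ω) else x

theorem extAut_of_mem (α : MulAut T) {x : Ω} (h : x ∈ T) :
    extAut α x = ((α ⟨x, h⟩ : T) : Ω) := dif_pos h

theorem extAut_mem (α : MulAut T) {x : Ω} (h : x ∈ T) : extAut α x ∈ T := by
  rw [extAut_of_mem α h]; exact (α _).2

theorem extAut_mul (α β : MulAut T) (x : Ω) : extAut (α * β) x = extAut α (extAut β x) := by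
  by_cases h : x ∈ T
  · rw [extAut_of_mem _ h, extAut_of_mem β h, extAut_of_mem α (β ⟨x, h⟩).2]
    rfl
  · simp [extAut, h]

theorem extAut_one (x : Ω) : extAut (1 : MulAut T) x = x := by
  by_cases h : x ∈ T
  · rw [extAut_of_mem _ h]; rfl
  · simp [extAut, h]

theorem extAut_inv_apply (α : MulAut T) (x : Ω) : extAut α⁻¹ (extAut α x) = x := by
  rw [← extAut_mul, inv_mul_cancel, extAut_one]

theorem extAut_apply_inv (α : MulAut T) (x : Ω) : extAut α (extAut α⁻¹ x) = x := by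
  rw [← extAut_mul, mul_inv_cancel, extAut_one]

theorem mor_extAut (hTS : T ≤ S) {α : MulAut T} (hα : α ∈ F.autGroup T) :
    Mor F T (extAut α) :=
  ⟨_, (autGroup_carrier hTS).1 hα, fun x => (extAut_of_mem α x.2).symm⟩

theorem mor_of_subsystem (h : E.IsSubsystemOf F) {P : Subgroup Ω} {f : Ω → Ω} (hf : Mor E P f) :
    Mor F P f := by
  obtain ⟨φ, hφ, e⟩ := hf
  exact ⟨φ, h P hφ, e⟩

/-- Maps of an invariant subsystem, conjugated by an automorphism of `T`. -/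
theorem mor_twist (hinv : E.IsInvariantIn F) {α : MulAut T} (hα : α ∈ F.autGroup T)
    {P P' : Subgroup Ω} {e : Ω → Ω} (he : Mor E P e) (hi : Im (extAut α) P P') :
    Mor E P' (fun y => extAut α (e (extAut α⁻¹ y))) := by
  obtain ⟨φ, hφ, hφe⟩ := he
  have hPT := le_of_mem_hom hφ
  obtain ⟨χ, hχ, hχe⟩ := hinv.2.2.1 P hPT φ hφ α hα
  have hmap : P' ≤ (P.subgroupOf T).map (T.subtype.comp α.toMonoidHom) := fun y hy => by
    obtain ⟨x, hx, rfl⟩ := hi.surj hy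
    exact ⟨⟨x, hPT hx⟩, hx, (extAut_of_mem α (hPT hx)).symm⟩
  refine ⟨_, restrict_mem hχ hmap, ?_⟩
  rintro ⟨y, hy⟩
  obtain ⟨x, hx, rfl⟩ := hi.surj hy
  show χ ⟨extAut α x, _⟩ = extAut α (e (extAut α⁻¹ (extAut α x)))
  have hαx := extAut_of_mem α (hPT hx)
  rw [extAut_inv_apply, ← hφe ⟨x, hx⟩, extAut_of_mem α (apply_mem_S hφ _)]
  refine Eq.trans (apply_congr χ ?_) (hχe ⟨x, hx⟩ (apply_mem_S hφ _) (hαx ▸ hmap hy))
  exact hαx

/-- Every map between subgroups of `T` is an automorphism of `T` after a map of the subsystem. -/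
theorem mor_frattini (hinv : E.IsInvariantIn F) {P : Subgroup Ω} {f : Ω → Ω} (hPT : P ≤ T)
    (hf : Mor F P f) :
    ∃ α ∈ F.autGroup T, ∃ e, Mor E P e ∧ ∀ x ∈ P, f x = extAut α (e x) := by
  obtain ⟨φ, hφ, hφf⟩ := hf
  obtain ⟨α, hα, φ₀, hφ₀, h⟩ := hinv.2.2.2 P hPT φ hφ
  obtain ⟨e, he, he'⟩ := Mor.of_mem hφ₀
  refine ⟨α, hα, e, he, fun x hx => ?_⟩
  rw [← hφf ⟨x, hx⟩, he' ⟨x, hx⟩, extAut_of_mem α (apply_mem_S hφ₀ _)]
  exact h ⟨x, hx⟩ _

theorem mor_T (hinv : E.IsInvariantIn F) {P : Subgroup Ω} {f : Ω → Ω} (hPT : P ≤ T)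
    (hf : Mor F P f) {x : Ω} (hx : x ∈ P) : f x ∈ T := by
  obtain ⟨φ, hφ, hφf⟩ := hf
  exact Set.mem_of_eq_of_mem (hφf ⟨x, hx⟩).symm (hinv.2.1.2 P hPT φ hφ ⟨x, hx⟩)

/-- The maps that are an element of `A` after a map of `E`. -/
def UMor (E : FusionSystem T) (A : Subgroup (MulAut T)) (P : Subgroup Ω) (f : Ω → Ω) : Prop :=
  ∃ a ∈ A, ∃ e, Mor E P e ∧ ∀ x ∈ P, f x = extAut a (e x)

section UMor

variable {A : Subgroup (MulAut T)} (hAF : A ≤ F.autGroup T) (hinv : E.IsInvariantIn F)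

theorem UMor.of_mor {P : Subgroup Ω} {f : Ω → Ω} (hf : Mor E P f) : UMor E A P f :=
  ⟨1, one_mem _, f, hf, fun x _ => (extAut_one _).symm⟩

theorem UMor.congr {P : Subgroup Ω} {f g : Ω → Ω} (hf : UMor E A P f)
    (h : ∀ x ∈ P, g x = f x) : UMor E A P g := by
  obtain ⟨a, ha, e, he, hfe⟩ := hf
  exact ⟨a, ha, e, he, fun x hx => (h x hx).trans (hfe x hx)⟩

theorem UMor.mem_T {P : Subgroup Ω} {f : Ω → Ω} (hf : UMor E A P f) {x : Ω} (hx : x ∈ P) :
    f x ∈ T := by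
  obtain ⟨a, -, e, he, hfe⟩ := hf
  rw [hfe x hx]
  exact extAut_mem a (he.mem_S hx)

include hAF hinv in
theorem UMor.mor {P : Subgroup Ω} {f : Ω → Ω} (hf : UMor E A P f) : Mor F P f := by
  obtain ⟨a, ha, e, he, hfe⟩ := hf
  exact ((mor_of_subsystem hinv.1 he).comp (mor_extAut (le_of_subsystem hinv.1) (hAF ha))
    fun x hx => he.mem_S hx).congr hfe

include hAF hinv in
theorem UMor.comp {P Q : Subgroup Ω} {f g : Ω → Ω} (hf : UMor E A P f) (hg : UMor E A Q g)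
    (hm : ∀ x ∈ P, f x ∈ Q) : UMor E A P (g ∘ f) := by
  obtain ⟨a, ha, e, he, hfe⟩ := hf
  obtain ⟨b, hb, d, hd, hgd⟩ := hg
  obtain ⟨Q', hQ'⟩ := (mor_extAut (le_of_subsystem hinv.1) (inv_mem (hAF ha))).exists_im hd.le_S
  have hd' : Mor E Q' (fun y => extAut a⁻¹ (d (extAut a y))) := by
    have := mor_twist hinv (inv_mem (hAF ha)) hd hQ'
    simpa only [inv_inv] using this
  refine ⟨b * a, mul_mem hb ha, _, he.comp hd' fun x hx => ?_, fun x hx => ?_⟩
  · have h1 := hQ'.mem (hm x hx)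
    rwa [hfe x hx, extAut_inv_apply] at h1
  · show g (f x) = extAut (b * a) (extAut a⁻¹ (d (extAut a (e x))))
    rw [extAut_mul, extAut_apply_inv, ← hfe x hx]
    exact hgd _ (hm x hx)

include hinv in
theorem UMor.conj (hnorm : ∀ β ∈ F.autGroup T, ∀ a ∈ A, β * a * β⁻¹ ∈ A) (hAF' : A ≤ F.autGroup T)
    {P Q : Subgroup Ω} {f u g : Ω → Ω} (hPT : P ≤ T) (hu : UMor E A P u) (hui : ∀ x ∈ P, u x ∈ P)
    (hf : Mor F P f) (hfi : Im f P Q) (hg : ∀ x ∈ P, g (f x) = x) :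
    UMor E A Q (fun y => f (u (g y))) := by
  obtain ⟨β, hβ, e, he, hfe⟩ := mor_frattini hinv hPT hf
  obtain ⟨P₁, hP₁⟩ := he.exists_im (le_refl P)
  obtain ⟨e', he', he'i, he'1, -⟩ := he.exists_inv hP₁
  have hw : UMor E A P₁ (e ∘ (u ∘ e')) :=
    UMor.comp hAF' hinv (UMor.comp hAF' hinv (UMor.of_mor he') hu fun x hx => he'i.mem hx)
      (UMor.of_mor he) fun x hx => hui _ (he'i.mem hx)
  obtain ⟨a, ha, d, hd, hde⟩ := hw
  have hPQ : Im (extAut β) P₁ Q := fun y => by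
    rw [hfi y]
    constructor
    · rintro ⟨x, hx, rfl⟩
      exact ⟨e x, hP₁.mem hx, (hfe x hx).symm⟩
    · rintro ⟨z, hz, rfl⟩
      obtain ⟨x, hx, rfl⟩ := hP₁.surj hz
      exact ⟨x, hx, hfe x hx⟩
  refine ⟨β * a * β⁻¹, hnorm β hβ a ha, _, mor_twist hinv hβ hd hPQ, fun y hy => ?_⟩
  obtain ⟨x, hx, rfl⟩ := hfi.surj hy
  show f (u (g (f x))) = extAut (β * a * β⁻¹) (extAut β (d (extAut β⁻¹ (f x))))
  rw [hg x hx, extAut_mul, extAut_mul, extAut_inv_apply, hfe x hx, extAut_inv_apply,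
    ← hde _ (hP₁.mem hx)]
  show f (u x) = extAut β (e (u (e' (e x))))
  rw [he'1 x hx]
  exact hfe _ (hui x hx)

end UMor

/-- The automorphisms of `P` of the form an element of `A` after a map of `E`, conjugated by a map
of `F` in functions. -/
theorem autGroup_transfer (hinv : E.IsInvariantIn F) {P Q : Subgroup Ω} {f : Ω → Ω} (hPT : P ≤ T)
    (hf : Mor F P f) (hfi : Im f P Q) (e : P ≃* Q) (he : ∀ x : P, ((e x : Q) : Ω) = f x)
    {β : MulAut P} (hβ : β ∈ E.autGroup P) : MulAut.congr e β ∈ E.autGroup Q := by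
  obtain ⟨u, hu, hui, hue⟩ := exists_mor_of_aut hPT hβ
  obtain ⟨g, hg, hgi, hg1, hg2⟩ := hf.exists_inv hfi
  have hQT : Q ≤ T := fun y hy => by
    obtain ⟨x, hx, rfl⟩ := hfi.surj hy
    exact mor_T hinv hPT hf hx
  obtain ⟨a, ha, d, hd, hde⟩ : UMor E (⊥ : Subgroup (MulAut T)) Q (fun y => f (u (g y))) :=
    UMor.conj hinv (fun b _ a ha => by rw [Subgroup.mem_bot.1 ha]; simp) bot_le hPT
      (UMor.of_mor hu) (fun x hx => hui.mem hx) hf hfi hg1
  obtain ⟨φ, hφ, hφd⟩ := hd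
  refine (autGroup_carrier hQT).2 (restrict_mem_of_eq hφ le_rfl fun y => ?_)
  obtain ⟨x, rfl⟩ := e.surjective y
  show ((e (β (e.symm (e x))) : Q) : Ω) = φ _
  rw [e.symm_apply_apply, he, hφd]
  have h1 := hde (e x : Q) (e x).2
  rw [Subgroup.mem_bot.1 ha, extAut_one] at h1
  refine Eq.trans ?_ h1
  show f ((β x : P) : Ω) = f (u (g ((e x : Q) : Ω)))
  rw [he, hg1 _ x.2, hue]

end CfsgLib.Fusion
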