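import Cfsg.Agent.Fusion.PPrime.PElem
import Cfsg.Agent.Fusion.FrattiniSub
import Cfsg.Agent.Fusion.HGen.Main
import Cfsg.Prelude.Def_FusionComponents

/-!
The maps common to two weakly normal subsystems over `T` generate, on their centric subgroups, a
saturated subsystem of index prime to `p` in each.
-/

set_option autoImplicit false
set_option linter.unusedSectionVars false
set_option linter.style.haveILetI false

open Cfsg Cfsg.FusionSystem

namespace CfsgLib.Fusion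

variable {Ω : Type*} [Group Ω] {S T : Subgroup Ω} [Finite S] {F : FusionSystem S}
  {E E' : FusionSystem T}

/-- Centric in an invariant subsystem, read in the big system. -/
theorem centralizerIn_le_of_isConj (hinv : E.IsInvariantIn F) {P R : Subgroup Ω}
    (hP : E.IsCentric P) (h : F.IsConj P R) : centralizerIn T R ≤ R := by
  intro c hc
  obtain ⟨f, hf, hfi⟩ := isConj_iff_mor.1 h
  obtain ⟨α, hα, e, he, hfe⟩ := mor_frattini hinv hP.1 hf
  obtain ⟨P₁, hP₁⟩ := he.exists_im (le_refl P)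
  have hm : extAut α⁻¹ c ∈ P₁ := by
    refine hP.2 P₁ (he.isConj le_rfl hP₁) (mem_centralizerIn.2 ⟨extAut_mem _ hc.1, fun y hy => ?_⟩)
    obtain ⟨x, hx, rfl⟩ := hP₁.surj hy
    have hM := mor_extAut (F := F) (le_of_subsystem hinv.1) (inv_mem hα)
    have h1 := hc.2 (f x) (hfi.mem hx)
    have hfx : f x ∈ T := mor_T hinv hP.1 hf hx
    rw [show e x = extAut α⁻¹ (f x) by rw [hfe x hx, extAut_inv_apply], ← hM.map_mul hfx hc.1,
      ← hM.map_mul hc.1 hfx, h1]
  obtain ⟨x, hx, hxe⟩ := hP₁.surj hm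
  rw [← extAut_apply_inv α c, ← hxe, ← hfe x hx]
  exact hfi.mem hx

/-- Two weakly normal subsystems over `T` have the same centric subgroups. -/
theorem isCentric_transfer (hinv : E.IsInvariantIn F) (hsub : E'.IsSubsystemOf F) {P : Subgroup Ω}
    (hP : E.IsCentric P) : E'.IsCentric P :=
  ⟨hP.1, fun _ hR => centralizerIn_le_of_isConj hinv hP (isConj_of_subsystem hsub hR)⟩

/-- The system generated by the maps common to `E` and `E'` with centric source. -/
def meetGen (E E' : FusionSystem T) : FusionSystem T where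
  Hom P := {φ | φ ∈ E.Hom P ∧ ∀ G : FusionSystem T,
    (∀ (Q : Subgroup Ω) (ψ : Q →* Ω), E.IsCentric Q → ψ ∈ E.Hom Q → ψ ∈ E'.Hom Q → ψ ∈ G.Hom Q) →
      φ ∈ G.Hom P}
  le_of_mem h := E.le_of_mem h.1
  injective_of_mem h := E.injective_of_mem h.1
  conj_mem hP hg := ⟨E.conj_mem hP hg, fun G _ => G.conj_mem hP hg⟩
  comp_mem hφ hψ h := ⟨E.comp_mem hφ.1 hψ.1 h, fun G hG => G.comp_mem (hφ.2 G hG) (hψ.2 G hG) h⟩
  inv_mem {P φ} hφ := by
    obtain ⟨ψ, hψ, he⟩ := E.inv_mem hφ.1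
    refine ⟨ψ, ⟨hψ, fun G hG => ?_⟩, he⟩
    obtain ⟨ψ', hψ', he'⟩ := G.inv_mem (hφ.2 G hG)
    have h : ψ = ψ' := MonoidHom.ext fun y => by
      obtain ⟨_, x, rfl⟩ := y
      exact (he x).trans (he' x).symm
    exact h ▸ hψ'

theorem meetGen_le_left : (meetGen E E').IsSubsystemOf E := fun _ _ h => h.1

theorem meetGen_le_right : (meetGen E E').IsSubsystemOf E' := fun _ _ h =>
  h.2 E' fun _ _ _ _ h' => h'

theorem mem_meetGen {P : Subgroup Ω} (hP : E.IsCentric P) {φ : P →* Ω} (h : φ ∈ E.Hom P)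
    (h' : φ ∈ E'.Hom P) : φ ∈ (meetGen E E').Hom P :=
  ⟨h, fun _ hG => hG P φ hP h h'⟩

/-- A map of `meetGen` in both systems, in functions. -/
theorem mor_meetGen {P : Subgroup Ω} {f : Ω → Ω} (hP : E.IsCentric P) (h : Mor E P f)
    (h' : Mor E' P f) : Mor (meetGen E E') P f := by
  obtain ⟨φ, hφ, e⟩ := h
  obtain ⟨ψ, hψ, e'⟩ := h'
  have : φ = ψ := MonoidHom.ext fun x => (e x).trans (e' x).symm
  exact ⟨φ, mem_meetGen hP hφ (this ▸ hψ), e⟩

variable {p : ℕ} [Fact p.Prime]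

theorem meetGen_pElements (hS : IsPGroup p S) (hE : E.IsWeaklyNormalIn F p)
    (hE' : E'.IsWeaklyNormalIn F p) {P : Subgroup Ω} (hP : E.IsCentric P) :
    (Subgroup.closure {α : E.autGroup P | ∃ k : ℕ, orderOf α = p ^ k}).map
      (E.autGroup P).subtype ≤ (meetGen E E').autGroup P := by
  rw [MonoidHom.map_closure, Subgroup.closure_le]
  rintro _ ⟨α, ⟨k, hk⟩, rfl⟩
  have h1 : (α : MulAut P) ^ p ^ k = 1 := by
    rw [← hk, ← Subgroup.orderOf_coe]; exact pow_orderOf_eq_one _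
  have h2 := pElement_transfer hS hE hE'.2.2 hP.1 α.2 ⟨k, h1⟩
  exact (autGroup_carrier hP.1).2
    (mem_meetGen hP ((autGroup_carrier hP.1).1 α.2) ((autGroup_carrier hP.1).1 h2))

theorem meetGen_pElements_right (hS : IsPGroup p S) (hE : E.IsWeaklyNormalIn F p)
    (hE' : E'.IsWeaklyNormalIn F p) {P : Subgroup Ω} (hP : E'.IsCentric P) :
    (Subgroup.closure {α : E'.autGroup P | ∃ k : ℕ, orderOf α = p ^ k}).map
      (E'.autGroup P).subtype ≤ (meetGen E E').autGroup P := by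
  rw [MonoidHom.map_closure, Subgroup.closure_le]
  rintro _ ⟨α, ⟨k, hk⟩, rfl⟩
  have h1 : (α : MulAut P) ^ p ^ k = 1 := by
    rw [← hk, ← Subgroup.orderOf_coe]; exact pow_orderOf_eq_one _
  have h2 := pElement_transfer hS hE' hE.2.2 hP.1 α.2 ⟨k, h1⟩
  exact (autGroup_carrier hP.1).2 (mem_meetGen (isCentric_transfer hE'.2.2 hE.2.2.1 hP)
    ((autGroup_carrier hP.1).1 h2) ((autGroup_carrier hP.1).1 α.2))

/-- An extension in `E'` of a common map on a centric subgroup lies in `E` as well. -/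
theorem extension_mem (hS : IsPGroup p S) (hE : E.IsWeaklyNormalIn F p)
    (hE' : E'.IsWeaklyNormalIn F p) {R N : Subgroup Ω} (hR : E.IsCentric R) (hRN : R ≤ N)
    (hN : N ≤ Subgroup.normalizer (R : Set Ω)) {g g' : Ω → Ω} (hg : Mor E N g) (hg' : Mor E' N g')
    (h : ∀ x ∈ R, g' x = g x) : Mor E N g' := by
  have hTS := le_of_subsystem hE.2.2.1
  haveI : Finite T := finite_of_le hTS
  have hT : IsPGroup p T := isPGroup_of_le hS hTS
  have hNT := hg.le_S
  have hNS : N ≤ S := hNT.trans hTS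
  let A : Subgroup (MulAut T) := E.autGroup T ⊔ E'.autGroup T
  have hAF : A ≤ F.autGroup T := sup_le (autGroup_mono' hE.2.2.1 T) (autGroup_mono' hE'.2.2.1 T)
  have hnorm : ∀ β ∈ F.autGroup T, ∀ a ∈ A, β * a * β⁻¹ ∈ A := by
    intro β hβ a ha
    have hle : A.map (MulAut.conj β).toMonoidHom ≤ A := by
      rw [Subgroup.map_sup]
      refine sup_le ?_ ?_
      · rintro _ ⟨x, hx, rfl⟩
        exact Subgroup.mem_sup_left (invariant_conj_aut hE.2.2 le_rfl hβ hx)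
      · rintro _ ⟨x, hx, rfl⟩
        exact Subgroup.mem_sup_right (invariant_conj_aut hE'.2.2 le_rfl hβ hx)
    exact hle ⟨a, ha, rfl⟩
  -- `g'` is an element of `A` after a map of `E`
  have hU' : UMor E A N g' := by
    obtain ⟨φ, hφ, hφg⟩ := hg'
    obtain ⟨α, hα, φ₀, hφ₀, he⟩ := (primeToP_of_centric (F := E') (E := meetGen E E') p hT hE'.1 meetGen_le_right
      fun P hP => meetGen_pElements_right hS hE hE' hP).2.1 N φ hφ
    obtain ⟨e, hem, hee⟩ := Mor.of_mem (meetGen_le_left _ hφ₀)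
    refine ⟨α, Subgroup.mem_sup_right hα, e, hem, fun x hx => ?_⟩
    rw [← hφg ⟨x, hx⟩, hee ⟨x, hx⟩, extAut_of_mem α (apply_mem_S hφ₀ _)]
    exact he ⟨x, hx⟩ _
  obtain ⟨M, hM⟩ := hg.exists_im (le_refl N)
  obtain ⟨gi, hgi, hgii, hgi1, hgi2⟩ := hg.exists_inv hM
  obtain ⟨Q, hQ⟩ := hg.exists_im hRN
  have hQc : E.IsCentric Q := isCentric_of_isConj hR (hg.isConj hRN hQ)
  have hQM : Q ≤ M := fun y hy => by
    obtain ⟨x, hx, rfl⟩ := hQ.surj hy
    exact hM.mem (hRN hx)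
  have hdiff : ∀ y ∈ N, (g y)⁻¹ * g' y ∈ Q := by
    intro y hy
    refine hQc.2 Q (isConj_refl hQc.1)
      (mem_centralizerIn.2 ⟨mul_mem (Subgroup.inv_mem _ (hg.mem_S hy)) (hg'.mem_S hy), fun u hu => ?_⟩)
    obtain ⟨x, hx, rfl⟩ := hQ.surj hu
    have hyx : y * x * y⁻¹ ∈ R := (Subgroup.mem_normalizer_iff.1 (hN hy) x).1 hx
    have h1 := hg'.map_conj hy (hRN hx)
    rw [h _ hyx, hg.map_conj hy (hRN hx), h x hx] at h1
    calc g x * ((g y)⁻¹ * g' y) = (g y)⁻¹ * (g y * g x * (g y)⁻¹) * g' y := by group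
      _ = (g y)⁻¹ * (g' y * g x * (g' y)⁻¹) * g' y := by rw [h1]
      _ = (g y)⁻¹ * g' y * g x := by group
  have hg'M : ∀ y ∈ N, g' y ∈ M := fun y hy => by
    have := M.mul_mem (hM.mem hy) (hQM (hdiff y hy))
    rwa [mul_inv_cancel_left] at this
  have hU : UMor E A N (gi ∘ g') :=
    UMor.comp hAF hE.2.2 hU' (UMor.of_mor hgi) hg'M
  have huF : Mor F N (gi ∘ g') := UMor.mor hAF hE.2.2 hU
  obtain ⟨V, hV⟩ := huF.exists_im (le_refl N)
  have hVN : V ≤ N := fun y hy => by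
    obtain ⟨x, hx, rfl⟩ := hV.surj hy
    exact hgii.mem (hg'M x hx)
  obtain ⟨u, hu, hue⟩ :=
    huF.exists_aut le_rfl (eq_of_le_of_card_le hNS hVN (huF.card_im le_rfl hV).ge ▸ hV)
  have hfix : ∀ y : N, (y : Ω) ∈ R → u y = y := fun y hy => Subtype.ext (by
    rw [hue]
    show gi (g' y) = y
    rw [h _ hy, hgi1 _ y.2])
  have hmul : ∀ y : N, ∃ z : N, (z : Ω) ∈ R ∧ u y = y * z := fun y => by
    obtain ⟨x, hx, hxe⟩ := hQ.surj (hdiff _ y.2)
    refine ⟨⟨x, hRN hx⟩, hx, Subtype.ext ?_⟩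
    rw [hue]
    show gi (g' y) = (y : Ω) * x
    have h1 : g' y = g ((y : Ω) * x) := by
      rw [hg.map_mul y.2 (hRN hx), hxe, mul_inv_cancel_left]
    rw [h1, hgi1 _ (mul_mem y.2 (hRN hx))]
  have hup : ∃ k : ℕ, u ^ p ^ k = 1 := by
    haveI : Finite N := finite_of_le hNS
    obtain ⟨j, hj⟩ := IsPGroup.iff_card.1 (isPGroup_of_le hS hNS)
    refine ⟨j, MulEquiv.ext fun y => ?_⟩
    obtain ⟨z, hz, hzy⟩ := hmul y
    have hiter : ∀ n : ℕ, (u ^ n) y = y * z ^ n := by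
      intro n
      induction n with
      | zero => simp
      | succ n ih =>
        rw [pow_succ', MulAut.mul_apply, ih, map_mul, map_pow, hzy, hfix z hz, pow_succ', mul_assoc]
    rw [hiter, ← hj, pow_card_eq_one', mul_one]
    rfl
  have hNc : ∀ W, F.IsConj N W → centralizerIn T W ≤ W := fun W hW =>
    centralizerIn_le_of_isConj hE.2.2 (isCentric_mono hR hRN hNT) hW
  have huE := uAut_pElement hS hE hAF le_sup_left hnorm
    (fun a ha hp => pElement_sup_inn hS hE hE' ha hp) hNT hNc hU (fun y => (hue y).symm) hup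
  obtain ⟨f, hf, hfi, hfe⟩ := exists_mor_of_aut hNT huE
  refine (hf.comp hg fun x hx => hfi.mem hx).congr fun y hy => ?_
  show g' y = g (f y)
  rw [hfe ⟨y, hy⟩, hue ⟨y, hy⟩]
  exact (hgi2 _ (hg'M y hy)).symm

/-- Saturation of `meetGen`: it has the `p`-automorphisms of the centric subgroups and common maps
have common extensions. -/
theorem meetGen_saturated [Finite T] (hT : IsPGroup p T) (hEs : E.IsSaturated p)
    (hp : ∀ P, E.IsCentric P → (Subgroup.closure {α : E.autGroup P | ∃ k : ℕ, orderOf α = p ^ k}).map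
      (E.autGroup P).subtype ≤ (meetGen E E').autGroup P)
    (hext : ∀ (R : Subgroup Ω) (θ : R →* Ω), E.IsCentric R → θ ∈ E.Hom R → θ ∈ E'.Hom R →
      ∀ ψ ∈ E.Hom (extender T R θ),
        (∀ (x : Ω) (hx : x ∈ R) (hN : x ∈ extender T R θ), ψ ⟨x, hN⟩ = θ ⟨x, hx⟩) →
        ∃ χ ∈ E.Hom (extender T R θ), χ ∈ E'.Hom (extender T R θ) ∧
          ∀ (x : Ω) (hx : x ∈ R) (hN : x ∈ extender T R θ), χ ⟨x, hN⟩ = θ ⟨x, hx⟩) :
    (meetGen E E').IsSaturated p ∧ (meetGen E E').HasPrimeToPIndexIn E p := by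
  obtain ⟨hidx, hfr, hcen⟩ := primeToP_of_centric (F := E) (E := meetGen E E') p hT hEs
    meetGen_le_left hp
  refine ⟨?_, hidx⟩
  refine saturated_of_family p hT _ {P | E.IsCentric P}
    (fun P hP Q hQ => isCentric_of_isConj hP (isConj_of_subsystem meetGen_le_left hQ))
    (fun P hP => ?_) (fun G hG P φ hφ => hφ.2 G fun Q ψ hQ h h' => hG Q hQ (mem_meetGen hQ h h'))
    fun P hP hP' => absurd ((hcen P).1 hP) hP'
  obtain ⟨Q₁, hPQ₁, hQ₁⟩ := exists_fullyNormalized E hP.1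
  obtain ⟨φ, hφ, hr⟩ := hPQ₁
  obtain ⟨α, hα, φ₀, hφ₀, he⟩ := hfr P φ hφ
  have hαH : T.subtype.comp α.toMonoidHom ∈ E.Hom T := (autGroup_carrier le_rfl).1 hα
  have hQT : φ₀.range ≤ T := range_le_S hφ₀
  have hmap : (φ₀.range.subgroupOf T).map (T.subtype.comp α.toMonoidHom) = Q₁ := by
    rw [← hr]
    ext y
    constructor
    · rintro ⟨w, ⟨x, hx⟩, rfl⟩
      exact ⟨x, (he x (apply_mem_S hφ₀ x)).trans
        (congrArg (fun z : T => ((α z : T) : Ω)) (Subtype.ext hx))⟩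
    · rintro ⟨x, rfl⟩
      exact ⟨⟨φ₀ x, apply_mem_S hφ₀ x⟩, ⟨x, rfl⟩, (he x _).symm⟩
  have hQQ₁ : E.IsConj φ₀.range Q₁ := hmap ▸ isConj_map hαH hQT
  have hQfn : E.IsFullyNormalized φ₀.range := by
    refine ⟨hQT, fun W hW => (hQ₁.2 W (isConj_trans (isConj_symm hQQ₁) hW)).trans ?_⟩
    have hαi : T.subtype.comp (α⁻¹ : MulAut T).toMonoidHom ∈ E.Hom T :=
      (autGroup_carrier le_rfl).1 (inv_mem hα)
    refine (card_le_card_map (normalizerIn_le_S φ₀.range) (E.injective_of_mem hαi)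
      (normalizerIn_le_S Q₁) fun g hg => ?_).1
    have h1 := map_mem_normalizerIn hαi hQ₁.1 hg (normalizerIn_le_S Q₁ hg)
    have h2 : (Q₁.subgroupOf T).map (T.subtype.comp (α⁻¹ : MulAut T).toMonoidHom) = φ₀.range := by
      rw [← hmap]
      ext y
      constructor
      · rintro ⟨w, ⟨v, hv, hvw⟩, rfl⟩
        have : w = α v := Subtype.ext hvw.symm
        show ((α⁻¹ w : T) : Ω) ∈ φ₀.range
        rw [this, MulAut.inv_apply_self]
        exact hv
      · intro hy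
        refine ⟨α ⟨y, hQT hy⟩, ⟨⟨y, hQT hy⟩, hy, rfl⟩, ?_⟩
        show ((α⁻¹ (α ⟨y, hQT hy⟩) : T) : Ω) = y
        rw [MulAut.inv_apply_self]
    rwa [h2] at h1
  have hQc : E.IsCentric φ₀.range := isCentric_of_isConj hP ⟨φ₀, meetGen_le_left _ hφ₀, rfl⟩
  refine ⟨φ₀.range, ⟨φ₀, hφ₀, rfl⟩, ?_, hQT, fun R θ hθ hθr => ?_⟩
  · obtain ⟨-, RR, hRR⟩ := (good_of_fullyNormalized p hT hEs hQfn).1
    haveI : Finite φ₀.range := finite_of_le hQT
    haveI : Finite (MulAut φ₀.range) := finite_mulAut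
    refine ⟨hQT, RR.comapOfInjective (Subgroup.inclusion (autGroup_mono' meetGen_le_left _))
      (Subgroup.inclusion_injective _) ?_, ?_⟩
    · intro x hx
      rw [hRR] at hx
      exact ⟨⟨x, autInducedBy_le_autGroup hQT (Subgroup.mem_subgroupOf.1 hx)⟩, Subtype.ext rfl⟩
    · ext x
      show Subgroup.inclusion _ x ∈ (RR : Subgroup (E.autGroup φ₀.range)) ↔ _
      rw [hRR]
      rfl
  · obtain ⟨hθE, hθD⟩ : θ ∈ E.Hom R ∧ θ ∈ E'.Hom R := ⟨hθ.1, meetGen_le_right _ hθ⟩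
    have hRc : E.IsCentric R := isCentric_of_isConj hQc (isConj_symm ⟨θ, hθE, hθr⟩)
    obtain ⟨ψ, hψ, hψe⟩ := receptive_extend
      (receptive_of_fullyCentralized p hT hEs (isFullyCentralized_of_centric hQc)) hθE hθr le_rfl
    obtain ⟨χ, hχ, hχ', hχe⟩ := hext R θ hRc hθE hθD ψ hψ hψe
    exact ⟨χ, mem_meetGen (isCentric_mono hRc (le_extender hθE) (le_of_mem_hom hχ)) hχ hχ', hχe⟩

theorem meetGen_spec (hS : IsPGroup p S) (hE : E.IsWeaklyNormalIn F p)
    (hE' : E'.IsWeaklyNormalIn F p) :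
    (meetGen E E').IsSaturated p ∧ (meetGen E E').HasPrimeToPIndexIn E p ∧
      (meetGen E E').IsSubsystemOf E' := by
  have hTS := le_of_subsystem hE.2.2.1
  haveI : Finite T := finite_of_le hTS
  have hT : IsPGroup p T := isPGroup_of_le hS hTS
  obtain ⟨h1, h2⟩ := meetGen_saturated (E := E) (E' := E') hT hE.1
    (fun P hP => meetGen_pElements hS hE hE' hP) fun R θ hRc hθE hθD ψ hψ hψe => by
      have hRQ : E.IsCentric θ.range := isCentric_of_isConj hRc ⟨θ, hθE, rfl⟩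
      have hQc' : E'.IsCentric θ.range := isCentric_transfer hE.2.2 hE'.2.2.1 hRQ
      obtain ⟨ψ', hψ', hψ'e⟩ := receptive_extend
        (receptive_of_fullyCentralized p hT hE'.1 (isFullyCentralized_of_centric hQc')) hθD rfl
          le_rfl
      obtain ⟨g, hg, hge⟩ := Mor.of_mem hψ
      obtain ⟨g', hg', hg'e⟩ := Mor.of_mem hψ'
      have hRN := le_extender hθE
      obtain ⟨χ, hχ, hχe⟩ := extension_mem hS hE hE' hRc hRN
        (fun x hx => (extender_le_normalizerIn R θ hx).2) hg hg' fun x hx => by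
          rw [hge ⟨x, hRN hx⟩, hg'e ⟨x, hRN hx⟩, hψe x hx, hψ'e x hx]
      have heq : χ = ψ' := MonoidHom.ext fun x => (hχe x).trans (hg'e x)
      exact ⟨ψ', heq ▸ hχ, hψ', hψ'e⟩
  exact ⟨h1, h2, meetGen_le_right⟩

/-- The `p'`-residual of a weakly normal subsystem lies in every weakly normal subsystem over the
same subgroup. -/
theorem pPrimeResidual_le_weaklyNormal (hS : IsPGroup p S) (hE : E.IsWeaklyNormalIn F p)
    (hE' : E'.IsWeaklyNormalIn F p) {D : FusionSystem T} (hD : E.IsPPrimeResidual p D) :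
    D.IsSubsystemOf E' := by
  obtain ⟨h1, h2, h3⟩ := meetGen_spec hS hE hE'
  exact fun P φ hφ => h3 P (hD.2.2 _ h1 h2 P hφ)

end CfsgLib.Fusion
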