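import Cfsg.Agent.Fusion.PPrime.Twist
import Cfsg.Agent.Fusion.HGen.Mor
import Cfsg.Agent.Fusion.Saturation

/-!
`p`-automorphisms in two weakly normal subsystems over the same `T` and in the system they
generate together.
-/

set_option autoImplicit false
set_option linter.unusedSectionVars false
set_option linter.style.haveILetI false

open Cfsg Cfsg.FusionSystem

namespace CfsgLib.Fusion

variable {Ω : Type*} [Group Ω] {S T : Subgroup Ω} [Finite S] {F : FusionSystem S}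
  {E E' : FusionSystem T} {p : ℕ} [Fact p.Prime]

/-- A `p`-automorphism in one weakly normal subsystem over `T` lies in every other. -/
theorem pElement_transfer (hS : IsPGroup p S) (hE : E.IsWeaklyNormalIn F p)
    (hE' : E'.IsInvariantIn F) {P : Subgroup Ω} (hPT : P ≤ T) {α : MulAut P}
    (hα : α ∈ E.autGroup P) (hp : ∃ k : ℕ, α ^ p ^ k = 1) : α ∈ E'.autGroup P := by
  obtain ⟨hEs, hF, hinv⟩ := hE
  have hTS := le_of_subsystem hinv.1
  haveI : Finite T := finite_of_le hTS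
  obtain ⟨Q, hPQ, hQ⟩ := exists_fullyNormalized F (hPT.trans hTS)
  obtain ⟨f, hf, hfi⟩ := isConj_iff_mor.1 hPQ
  have hQT : Q ≤ T := fun y hy => by
    obtain ⟨x, hx, rfl⟩ := hfi.surj hy
    exact mor_T hinv hPT hf hx
  obtain ⟨e, hev, -⟩ := hf.exists_equiv le_rfl hfi
  have hβ := autGroup_transfer hinv hPT hf hfi e hev hα
  haveI : Finite Q := finite_of_le hQ.1
  haveI : Finite (MulAut Q) := finite_mulAut
  obtain ⟨-, R, hR⟩ := (good_of_fullyNormalized p (isPGroup_of_le hS hTS) hEs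
    (fullyNormalized_sub p hS hF hinv.2.1 hinv.1 hQT hQ)).1
  let β : E.autGroup Q := ⟨MulAut.congr e α, hβ⟩
  obtain ⟨k, hk⟩ := hp
  have hB : IsPGroup p (Subgroup.zpowers β) := by
    refine IsPGroup.iff_card.2 ?_
    have h1 : β ^ p ^ k = 1 := Subtype.ext (by
      show (MulAut.congr e α) ^ p ^ k = 1
      rw [← map_pow, hk, map_one])
    obtain ⟨j, -, hj⟩ := (Nat.dvd_prime_pow Fact.out).1 (orderOf_dvd_of_pow_eq_one h1)
    exact ⟨j, by rw [Nat.card_zpowers, hj]⟩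
  obtain ⟨T₁, hT₁⟩ := hB.exists_le_sylow
  obtain ⟨c, hc⟩ := MulAction.exists_smul_eq (E.autGroup Q) T₁ R
  have h1 : c * β * c⁻¹ ∈ (R : Subgroup (E.autGroup Q)) := by
    rw [← hc, Sylow.coe_subgroup_smul]
    exact ⟨_, hT₁ (Subgroup.mem_zpowers β), rfl⟩
  rw [hR] at h1
  have h2 : MulAut.congr e α ∈ E'.autGroup Q := by
    have h3 := invariant_conj_aut hE' hQT (inv_mem (autGroup_mono' hinv.1 Q c.2))
      (autInducedBy_le_autGroup hQT (Subgroup.mem_subgroupOf.1 h1))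
    simpa [mul_assoc, β] using h3
  obtain ⟨g, hg, hgi, hg1, -⟩ := hf.exists_inv hfi
  have h4 := autGroup_transfer hE' hQT hg hgi e.symm (fun y => by
    obtain ⟨x, rfl⟩ := e.surjective y
    rw [e.symm_apply_apply, hev, hg1 x x.2]) h2
  have h5 : MulAut.congr e.symm (MulAut.congr e α) = α := MulEquiv.ext fun x => by
    simp [MulAut.congr]
  rwa [h5] at h4

/-- The `p`-elements of the join of the automizers of `T` are inner. -/
theorem pElement_sup_inn (hS : IsPGroup p S) (hE : E.IsWeaklyNormalIn F p)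
    (hE' : E'.IsWeaklyNormalIn F p) {a : MulAut T} (ha : a ∈ E.autGroup T ⊔ E'.autGroup T)
    (hp : ∃ k : ℕ, a ^ p ^ k = 1) : a ∈ Inn T := by
  have hTS := le_of_subsystem hE.2.2.1
  haveI : Finite T := finite_of_le hTS
  haveI : Finite (MulAut T) := finite_mulAut
  let G := F.autGroup T
  have hle : E.autGroup T ≤ G := autGroup_mono' hE.2.2.1 T
  have hle' : E'.autGroup T ≤ G := autGroup_mono' hE'.2.2.1 T
  let H := (E.autGroup T).subgroupOf G
  let K := (E'.autGroup T).subgroupOf G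
  let N := (Inn T).subgroupOf G
  haveI : H.Normal := ⟨fun x hx g => invariant_conj_aut hE.2.2 le_rfl g.2 hx⟩
  haveI : K.Normal := ⟨fun x hx g => invariant_conj_aut hE'.2.2 le_rfl g.2 hx⟩
  haveI : N.Normal := inn_subgroupOf_normal T
  have hidx : ∀ {D : FusionSystem T}, D.IsSaturated p → D.autGroup T ≤ G →
      ¬ p ∣ N.relIndex ((D.autGroup T).subgroupOf G) := by
    intro D hD hDG
    obtain ⟨-, R, hR⟩ := (good_of_fullyNormalized p (isPGroup_of_le hS hTS) hD isFullyNormalized_S).1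
    have h1 := R.not_dvd_index
    rw [hR, ← inn_eq_autInducedBy] at h1
    rwa [show N = (Inn T).subgroupOf G from rfl, Subgroup.relIndex_subgroupOf hDG]
  have hNH : N ≤ H := fun x hx => inn_le_autGroup (F := E) le_rfl hx
  have hprod : ¬ p ∣ N.relIndex (H ⊔ K) := by
    rw [← Subgroup.relIndex_mul_relIndex _ _ _ hNH le_sup_left, Subgroup.relIndex_sup_left]
    intro hd
    rcases (Fact.out : p.Prime).dvd_mul.1 hd with h | h
    · exact hidx hE.1 hle h
    · exact hidx hE'.1 hle' (h.trans (Subgroup.relIndex_dvd_of_le_left K hNH))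
  have hsup : (E.autGroup T ⊔ E'.autGroup T).subgroupOf G = H ⊔ K :=
    Subgroup.subgroupOf_sup hle hle'
  have haG : a ∈ G := sup_le hle hle' ha
  have hx : (⟨a, haG⟩ : G) ∈ H ⊔ K := hsup.le (Subgroup.mem_subgroupOf.2 ha)
  obtain ⟨k, hk⟩ := hp
  let y : ↥(H ⊔ K) := ⟨⟨a, haG⟩, hx⟩
  let q : ↥(H ⊔ K) ⧸ N.subgroupOf (H ⊔ K) := QuotientGroup.mk' _ y
  have h1 : orderOf q ∣ p ^ k := orderOf_dvd_of_pow_eq_one (by
    rw [← map_pow, show y ^ p ^ k = 1 from Subtype.ext (Subtype.ext hk), map_one])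
  have h2 : orderOf q ∣ N.relIndex (H ⊔ K) := orderOf_dvd_natCard q
  have h3 : orderOf q = 1 := Nat.eq_one_of_dvd_coprimes
    (Nat.Coprime.pow_left k ((Fact.out : p.Prime).coprime_iff_not_dvd.2 hprod)) h1 h2
  exact (QuotientGroup.eq_one_iff y).1 (orderOf_eq_one_iff.1 h3)

/-- A map of `F` that agrees with an element after a map on a centric subgroup: `p`-automorphisms
of centric subgroups that are an element of `A` after a map of `E` lie in `E`. -/
theorem uAut_pElement (hS : IsPGroup p S) (hE : E.IsWeaklyNormalIn F p)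
    {A : Subgroup (MulAut T)} (hAF : A ≤ F.autGroup T) (hEA : E.autGroup T ≤ A)
    (hnorm : ∀ β ∈ F.autGroup T, ∀ a ∈ A, β * a * β⁻¹ ∈ A)
    (hA : ∀ a ∈ A, (∃ k : ℕ, a ^ p ^ k = 1) → a ∈ Inn T) :
    ∀ {Q : Subgroup Ω}, Q ≤ T → (∀ R, F.IsConj Q R → centralizerIn T R ≤ R) →
      ∀ {u : MulAut Q} {f : Ω → Ω}, UMor E A Q f → (∀ x : Q, f x = ((u x : Q) : Ω)) →
        (∃ k : ℕ, u ^ p ^ k = 1) → u ∈ E.autGroup Q := by
  obtain ⟨hEs, hF, hinv⟩ := hE
  have hTS := le_of_subsystem hinv.1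
  haveI : Finite T := finite_of_le hTS
  have hT : IsPGroup p T := isPGroup_of_le hS hTS
  intro Q
  induction hn : Nat.card T - Nat.card Q using Nat.strong_induction_on generalizing Q with
  | _ n IH =>
  subst hn
  intro hQT hc u f hf hfu hp
  have hfF := UMor.mor hAF hinv hf
  have hfi : ∀ x ∈ Q, f x ∈ Q := fun x hx =>
    Set.mem_of_eq_of_mem (hfu ⟨x, hx⟩) (SetLike.coe_mem _)
  have huF : u ∈ F.autGroup Q := by
    obtain ⟨φ, hφ, hφe⟩ := hfF
    refine (autGroup_carrier (hQT.trans hTS)).2 (restrict_mem_of_eq hφ le_rfl fun x => ?_)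
    exact ((hφe x).trans (hfu x)).symm
  -- move to a good conjugate, where the automorphism is induced by `S`
  obtain ⟨Q₁, hQQ₁, hQ₁⟩ := exists_fullyNormalized F (hQT.trans hTS)
  obtain ⟨φ, s, hφ, hφr, hs, hse⟩ :=
    exists_conj_of_pElement p (good_of_fullyNormalized p hS hF hQ₁).1 hQQ₁ huF hp
  obtain ⟨m, hm, hme⟩ := Mor.of_mem hφ
  have hmi : Im m Q Q₁ := fun y => by
    rw [← hφr]
    exact ⟨fun ⟨x, e⟩ => ⟨x, x.2, (hme x).trans e⟩,
      fun ⟨x, hx, e⟩ => ⟨⟨x, hx⟩, (hme ⟨x, hx⟩).symm.trans e⟩⟩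
  have hQ₁T : Q₁ ≤ T := fun y hy => by
    obtain ⟨x, hx, rfl⟩ := hmi.surj hy
    exact mor_T hinv hQT hm hx
  obtain ⟨em, hem, -⟩ := hm.exists_equiv le_rfl hmi
  obtain ⟨m', hm', hm'i, hm'1, hm'2⟩ := hm.exists_inv hmi
  have hU : UMor E A Q₁ (fun y => m (f (m' y))) := UMor.conj hinv hnorm hAF hQT hf hfi hm hmi hm'1
  obtain ⟨a, ha, e, he, hae⟩ := hU
  have hsy : ∀ y ∈ Q₁, extAut a (e y) = s * y * s⁻¹ := fun y hy => by
    rw [← hae y hy]
    have hx := hm'i.mem hy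
    have h1 := hse ⟨m' y, hx⟩
    rw [← hme, ← hme] at h1
    show m (f (m' y)) = _
    rw [hfu ⟨m' y, hx⟩, h1, hm'2 y hy]
  suffices hmain : conjAut S Q₁ ⟨s, hs⟩ ∈ E.autGroup Q₁ by
    have h1 := autGroup_transfer hinv hQ₁T hm' hm'i em.symm (fun y => by
      obtain ⟨x, rfl⟩ := em.surjective y
      rw [em.symm_apply_apply, hem, hm'1 x x.2]) hmain
    have h2 : MulAut.congr em.symm (conjAut S Q₁ ⟨s, hs⟩) = u := MulEquiv.ext fun x => by
      apply em.injective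
      refine Subtype.ext ?_
      show ((em (em.symm (conjAut S Q₁ ⟨s, hs⟩ (em x))) : Q₁) : Ω) = _
      rw [em.apply_symm_apply, hem, coe_conjAut, hem, hme, hme]
      exact (hse x).symm
    rwa [h2] at h1
  have hpS : ∃ k : ℕ, (⟨s, hs.1⟩ : S) ^ p ^ k = 1 := hS _
  obtain ⟨k, hk⟩ := hpS
  have hsk : s ^ p ^ k = 1 := congrArg Subtype.val hk
  rcases hQ₁T.eq_or_lt with heq | hlt
  · -- the top: the automorphism lies in `A`
    subst heq
    obtain ⟨E₁, hE₁⟩ := he.exists_im (le_refl Q₁)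
    have hE₁T : E₁ = Q₁ := eq_of_le_of_card_le hTS (he.im_le_S le_rfl hE₁)
      (he.card_im le_rfl hE₁).ge
    obtain ⟨α, hα, hαe⟩ := he.exists_aut le_rfl (hE₁T ▸ hE₁)
    have hk2 : conjAut S Q₁ ⟨s, hs⟩ = a * α := MulEquiv.ext fun x => Subtype.ext (by
      show s * (x : Ω) * s⁻¹ = ((a (α x) : Q₁) : Ω)
      rw [← hsy x x.2, ← hαe x, extAut_of_mem a (α x).2])
    refine inn_le_autGroup le_rfl (hA _ (hk2 ▸ mul_mem ha (hEA hα)) ⟨k, ?_⟩)
    rw [← map_pow, show (⟨s, hs⟩ : ↥(S ⊓ Subgroup.normalizer (Q₁ : Set Ω))) ^ p ^ k = 1 from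
      Subtype.ext hsk, map_one]
  -- extend `e` to the normalizer in `T`
  let N := normalizerIn T Q₁
  have hQN : Q₁ < N := lt_normalizerIn p hT le_rfl hlt
  have hNT : N ≤ T := normalizerIn_le_S Q₁
  have hNS : N ≤ S := hNT.trans hTS
  have hTnorm : ∀ g ∈ T, s * g * s⁻¹ ∈ T := fun g hg =>
    hinv.2.1.2 T le_rfl _ (F.conj_mem hTS hs.1) ⟨g, hg⟩
  obtain ⟨R, hR⟩ := he.exists_im (le_refl Q₁)
  have hRT : R ≤ T := he.im_le_S le_rfl hR
  have hQ₁F : F.IsConj Q Q₁ := hm.isConj le_rfl hmi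
  have hRF : F.IsConj Q R := isConj_trans hQ₁F ((mor_of_subsystem hinv.1 he).isConj le_rfl hR)
  have hRc : E.IsCentric R :=
    ⟨hRT, fun W hW => hc W (isConj_trans hRF (isConj_of_subsystem hinv.1 hW))⟩
  have hRr : E.IsReceptive R :=
    receptive_of_fullyCentralized p hT hEs (isFullyCentralized_of_centric hRc)
  obtain ⟨e', he', he'e⟩ := receptive_mor (N := N) hRr he hR fun g hg => by
    refine ⟨hg.1, hg.2, extAut a⁻¹ (s * g * s⁻¹), extAut_mem _ (hTnorm g hg.1), fun x hx => ?_⟩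
    have hgx : g * x * g⁻¹ ∈ Q₁ := (Subgroup.mem_normalizer_iff.1 hg.2 x).1 hx
    have hw := mor_extAut (F := F) hTS (inv_mem (hAF ha))
    have h1 : e (g * x * g⁻¹) = extAut a⁻¹ (s * (g * x * g⁻¹) * s⁻¹) := by
      rw [← hsy _ hgx, extAut_inv_apply]
    have h2 : e x = extAut a⁻¹ (s * x * s⁻¹) := by rw [← hsy x hx, extAut_inv_apply]
    rw [h1, h2, ← hw.map_conj (hTnorm g hg.1) (hTnorm x (hQ₁T hx))]
    congr 1
    group
  have he'N : Mor E N e' := he'.mono le_sup_left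
  let v₀ : Ω → Ω := fun x => extAut a (e' x)
  have hv₀U : UMor E A N v₀ := ⟨a, ha, e', he'N, fun _ _ => rfl⟩
  have hv₀F : Mor F N v₀ := UMor.mor hAF hinv hv₀U
  have hv₀Q : ∀ x ∈ Q₁, v₀ x = s * x * s⁻¹ := fun x hx => by
    show extAut a (e' x) = _
    rw [he'e x hx, hsy x hx]
  have hc₁ : centralizerIn T Q₁ ≤ Q₁ := hc _ hQ₁F
  -- `v₀` differs from conjugation by `s` by elements of `Q₁`
  have hdiff : ∀ g ∈ N, ∃ z ∈ Q₁, v₀ g = s * (g * z) * s⁻¹ := by
    intro g hg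
    refine ⟨g⁻¹ * (s⁻¹ * v₀ g * s), hc₁ (mem_centralizerIn.2 ⟨?_, fun x hx => ?_⟩), by group⟩
    · refine mul_mem (Subgroup.inv_mem _ (hNT hg)) ?_
      have h1 := hinv.2.1.2 T le_rfl _ (F.conj_mem hTS (Subgroup.inv_mem _ hs.1)) ⟨v₀ g, hv₀U.mem_T hg⟩
      simpa [mul_assoc] using h1
    · have hgx : g * x * g⁻¹ ∈ Q₁ := (Subgroup.mem_normalizer_iff.1 hg.2 x).1 hx
      have h1 := hv₀F.map_conj hg (hQN.le hx)
      rw [hv₀Q _ hgx, hv₀Q _ hx] at h1
      calc x * (g⁻¹ * (s⁻¹ * v₀ g * s))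
          = g⁻¹ * s⁻¹ * (s * (g * x * g⁻¹) * s⁻¹) * v₀ g * s := by group
        _ = g⁻¹ * s⁻¹ * (v₀ g * (s * x * s⁻¹) * (v₀ g)⁻¹) * v₀ g * s := by rw [h1]
        _ = g⁻¹ * (s⁻¹ * v₀ g * s) * x := by group
  have hsN : s ∈ Subgroup.normalizer (N : Set Ω) := by
    refine mem_normalizer_of_conj_mem hNS fun g hg => ⟨hTnorm g hg.1, ?_⟩
    exact mul_mem (mul_mem hs.2 hg.2) (Subgroup.inv_mem _ hs.2)
  have hsN' : ∀ g ∈ N, s * g * s⁻¹ ∈ N := fun g hg => (Subgroup.mem_normalizer_iff.1 hsN g).1 hg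
  obtain ⟨V, hV⟩ := hv₀F.exists_im (le_refl N)
  have hVN : V ≤ N := fun y hy => by
    obtain ⟨g, hg, rfl⟩ := hV.surj hy
    obtain ⟨z, hz, hzv⟩ := hdiff g hg
    rw [hzv]
    exact hsN' _ (N.mul_mem hg (hQN.le hz))
  obtain ⟨v, hv, hve⟩ :=
    hv₀F.exists_aut le_rfl (eq_of_le_of_card_le hNS hVN (hv₀F.card_im le_rfl hV).ge ▸ hV)
  have hvp : ∃ j : ℕ, v ^ p ^ j = 1 := by
    let cs : MulAut N := conjAut S N ⟨s, hs.1, hsN⟩
    have hpow : ∀ (n : ℕ) (g : N), ∃ z ∈ Q₁, (((v ^ n) g : N) : Ω) = s ^ n * ((g : Ω) * z) * (s ^ n)⁻¹ := by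
      intro n
      induction n with
      | zero => intro g; exact ⟨1, one_mem _, by simp⟩
      | succ n ih =>
        intro g
        obtain ⟨z, hz, hzn⟩ := ih g
        obtain ⟨w, hw, hwn⟩ := hdiff _ ((v ^ n) g).2
        refine ⟨z * ((s ^ n)⁻¹ * w * s ^ n), Q₁.mul_mem hz ?_, ?_⟩
        · exact (Subgroup.mem_normalizer_iff''.1 (pow_mem hs.2 n) w).1 hw
        · rw [pow_succ', MulAut.mul_apply, hve, hwn, hzn, pow_succ']
          group
    let w : MulAut N := v ^ p ^ k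
    have hw1 : ∀ g : N, ∃ z ∈ Q₁, ((w g : N) : Ω) = (g : Ω) * z := fun g => by
      obtain ⟨z, hz, he⟩ := hpow (p ^ k) g
      exact ⟨z, hz, by rw [he, hsk]; group⟩
    have hwQ : ∀ g : N, (g : Ω) ∈ Q₁ → w g = g := by
      intro g hg
      have : ∀ n : ℕ, (((v ^ n) g : N) : Ω) = s ^ n * (g : Ω) * (s ^ n)⁻¹ := by
        intro n
        induction n with
        | zero => simp
        | succ n ih =>
          rw [pow_succ', MulAut.mul_apply, hve, hv₀Q _ (by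
            rw [ih]; exact (Subgroup.mem_normalizer_iff.1 (pow_mem hs.2 n) _).1 hg), ih, pow_succ']
          group
      refine Subtype.ext ((this (p ^ k)).trans ?_)
      rw [hsk]; group
    haveI : Finite N := finite_of_le hNS
    obtain ⟨j, hj⟩ := IsPGroup.iff_card.1 (isPGroup_of_le hS hNS)
    refine ⟨k + j, MulEquiv.ext fun g => ?_⟩
    obtain ⟨z, hz, hzg⟩ := hw1 g
    let zz : N := ⟨z, hQN.le hz⟩
    have hwg : w g = g * zz := Subtype.ext hzg
    have hiter : ∀ n : ℕ, (w ^ n) g = g * zz ^ n := by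
      intro n
      induction n with
      | zero => simp
      | succ n ih =>
        rw [pow_succ', MulAut.mul_apply, ih, map_mul, map_pow, hwg, hwQ zz hz, pow_succ', mul_assoc]
    rw [pow_add, pow_mul]
    show (w ^ p ^ j) g = g
    rw [hiter, ← hj, pow_card_eq_one', mul_one]
  have hNc : ∀ R', F.IsConj N R' → centralizerIn T R' ≤ R' := by
    intro R' hR' c hcR
    obtain ⟨n₀, hn₀, hn₀i⟩ := isConj_iff_mor.1 hR'
    obtain ⟨W, hW⟩ := hn₀.exists_im hQN.le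
    have hWR : W ≤ R' := fun y hy => by
      obtain ⟨x, hx, rfl⟩ := hW.surj hy
      exact hn₀i.mem (hQN.le hx)
    exact hWR (hc W (isConj_trans hQ₁F (hn₀.isConj hQN.le hW))
      (mem_centralizerIn.2 ⟨hcR.1, fun x hx => hcR.2 x (hWR hx)⟩))
  have hlt' : Nat.card T - Nat.card N < Nat.card T - Nat.card Q := by
    haveI : Finite N := finite_of_le hNS
    have h1 := IsConj.card_eq hQ₁F
    have h2 : Nat.card Q₁ < Nat.card N :=
      lt_of_not_ge fun h => hQN.ne (eq_of_le_of_card_le hNS hQN.le h)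
    have h3 := card_le_of_le le_rfl hNT
    omega
  have hvE := IH _ hlt' rfl hNT hNc hv₀U (fun g => (hve g).symm) hvp
  have hres := (autGroup_carrier hNT).1 hvE
  refine (autGroup_carrier hQ₁T).2 (restrict_mem_of_eq hres hQN.le fun x => ?_)
  show s * (x : Ω) * s⁻¹ = ((v ⟨x, hQN.le x.2⟩ : N) : Ω)
  rw [hve, hv₀Q x x.2]

end CfsgLib.Fusion
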